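import Cfsg.Agent.H865.EE.Facts

/-!
# Reflections on `E5 k` (helper865, S3384)

* `RepE k y v` : `y = nu v * t` with `v ∈ CW`, `t ∈ E5 k`; `RepE.mul`, `RepE.pow`, `RepE.eq_one`;
* `no_transv`; `refl_of` : an element acting on `E5 k` as a reflection with hyperplane `ker a` represents `rr a`.
-/

set_option autoImplicit false
set_option linter.unusedSectionVars false

namespace Cfsg.Agent.H865.EE

open CoxeterSystem Subgroup Cfsg Cfsg.Lie Cfsg.Lie.ChevalleyDatum
open Cfsg.Agent.ChevalleyStructure Cfsg.Agent.ChevalleyStructure.Elts Cfsg.Agent.ChevalleyStructure.CoxeterGeom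
  Cfsg.Agent.ChevalleyStructure.CoxeterGeomTypes Cfsg.Agent.ChevalleyStructure.NPerm
open Cfsg.Agent.Tits.Roots Cfsg.Agent.Tits.Core Cfsg.Agent.Nodes Cfsg.Agent.Nodes.SubComb Cfsg.Agent.Nodes.Reps
  Cfsg.Agent.Nodes.BNOf Cfsg.Agent.Nodes.RGDChev Cfsg.Agent.Nodes.Bruhat Cfsg.Agent.Nodes.Coroot
open Cfsg.Agent.KFacts.RgdField Cfsg.Agent.KFacts.RgdChevCoord Cfsg.Agent.BpExc.TorCent Cfsg.Agent.BpExc.TorChev
open Cfsg.Agent.GpExc.Field Cfsg.Agent.BpExc.Tow Cfsg.Agent.BpExc.TowChev Cfsg.Agent.BpExc.Fr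
  Cfsg.Agent.BpExc.LangFr Cfsg.Agent.BpExc.FamField Cfsg.Agent.BpExc.FamInst Cfsg.Agent.H129.TorusChar
  Cfsg.Agent.H795.LangT Cfsg.Agent.BpExc.FamExt Cfsg.Agent.BpExc.FamUntw Cfsg.Agent.H378.TorDual Cfsg.Agent.H378.TorChar
  Cfsg.Agent.H378.TorFin Cfsg.Agent.H378.RankOne Cfsg.Agent.H378.RootTor

attribute [local irreducible] w8

/-! ### Lattice lemmas -/

theorem act_w8_ne (a : Fin 8 → ℤ) : bf a (act w8 a) = 0 := by
  have h1 := bf_act w8 a (act w8 a)
  rw [w8_sq, bf_neg_right, bf_comm (act w8 a) a] at h1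
  omega

/-- elements of `W8` are determined by their action on the roots. -/
theorem eq_one_of_roots {v : W8} (h : ∀ a, Rt a → act v a = a) : v = 1 := by
  refine act_ext fun x => ?_
  rw [act_one, IsMC.eq_sum_sr x, map_sum]
  refine Finset.sum_congr rfl fun i _ => ?_
  rw [map_zsmul, h _ (isRoot_sr _ _ i)]

theorem eq_one_of_PP {v : W8} (h : ∀ x, PP (act v x) = PP x) : v = 1 :=
  eq_one_of_roots fun a ha => PP_inj (rt_act ha v) ha (h a)

theorem PP_act_congr {v : W8} (hv : v ∈ CW) {x y : Fin 8 → ℤ} (h : PP x = PP y) : PP (act v x) = PP (act v y) := by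
  rw [PP_eq_iff] at h ⊢
  obtain ⟨z, hz⟩ := h
  refine ⟨act v z, ?_⟩
  rw [← map_sub, hz, map_sub, map_nsmul, mem_CW.1 hv]

theorem act_rr {a : Fin 8 → ℤ} (ha : Rt a) (x : Fin 8 → ℤ) :
    act (rr a) x = x - bf x a • a - bf x (act w8 a) • act w8 a := by
  rw [rr, act_mul, act_rf (rt_act ha w8), act_rf ha, bf_sub_left, bf_smul_left, bf_comm (act w8 a) a, act_w8_ne a,
    mul_zero, sub_zero]
  module

theorem rr_mem_CW {a : Fin 8 → ℤ} (ha : Rt a) : rr a ∈ CW := by
  rw [mem_CW]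
  intro x
  rw [act_rr ha, act_rr ha, map_sub, map_sub, map_smul, map_smul, w8_sq]
  have h1 : bf (act w8 x) (act w8 a) = bf x a := bf_act _ _ _
  have h2 : bf (act w8 x) a = -bf x (act w8 a) := by
    have := bf_act w8 x (act w8 a)
    rw [w8_sq, bf_neg_right] at this
    omega
  rw [h1, h2]
  module

theorem rr_sq {a : Fin 8 → ℤ} (ha : Rt a) : rr a * rr a = 1 := by
  refine act_ext fun x => ?_
  rw [act_mul, act_one, act_rr ha, act_rr ha]
  have h0 := act_w8_ne a
  have h2 := bf_self ha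
  have h3 := bf_self (rt_act ha w8)
  rw [bf_sub_left, bf_sub_left, bf_smul_left, bf_smul_left, bf_sub_left, bf_sub_left, bf_smul_left, bf_smul_left,
    bf_comm (act w8 a) a, h0, h2, h3]
  module

theorem PP_rr {a : Fin 8 → ℤ} (ha : Rt a) (x : Fin 8 → ℤ) :
    PP (act (rr a) x) = PP x - ((bf x a + 2 * bf x (act w8 a) : ℤ) : ZMod 5) • PP a := by
  rw [act_rr ha, map_sub, map_sub, map_zsmul, map_zsmul, PP_w8]
  have e1 : ∀ (m : ℤ) (v : V4), m • v = (m : ZMod 5) • v := fun m v => (Int.cast_smul_eq_zsmul (ZMod 5) m v).symm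
  have e2 : (2 : ℕ) • PP a = (2 : ZMod 5) • PP a := by
    rw [← Nat.cast_smul_eq_nsmul (ZMod 5)]; rfl
  rw [e1, e1, e2, smul_smul, sub_sub, ← add_smul]
  congr 2
  push_cast
  ring

variable {k : Type} [Field k] [CharP k 2] [PerfectRing k 2] [IsAlgClosed k] (hk : LocFin k)

/-! ### Representatives -/

/-- `y` represents `v ∈ CW`. -/
def RepE (k : Type) [Field k] [CharP k 2] [PerfectRing k 2] [IsAlgClosed k] (y : ↥(chevE8.group k)) (v : W8) : Prop :=
  v ∈ CW ∧ ∃ t ∈ E5 k, y = nu tp8 k v * t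

theorem E5_comm {s t : ↥(chevE8.group k)} (hs : s ∈ E5 k) (ht : t ∈ E5 k) : s * t = t * s :=
  TT_comm tp8 (K := k) s hs.1 t ht.1

include hk in
theorem nu_conj_E5 {v : W8} (hv : v ∈ CW) {t : ↥(chevE8.group k)} (ht : t ∈ E5 k) :
    nu tp8 k v * t * (nu tp8 k v)⁻¹ ∈ E5 k :=
  Subgroup.mem_inf.2 ⟨nu_conj_TT hk v ht.1,
    mul_mem (mul_mem (nu_mem_GG hk hv) (Subgroup.mem_inf.1 ht).2) (inv_mem (nu_mem_GG hk hv))⟩

include hk in
theorem RepE.conj {y : ↥(chevE8.group k)} {v : W8} (h : RepE k y v) {s : ↥(chevE8.group k)} (hs : s ∈ E5 k) :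
    y * s * y⁻¹ = nu tp8 k v * s * (nu tp8 k v)⁻¹ := by
  obtain ⟨hv, t, ht, rfl⟩ := h
  rw [mul_inv_rev]
  have h1 := E5_comm ht hs
  calc nu tp8 k v * t * s * (t⁻¹ * (nu tp8 k v)⁻¹) = nu tp8 k v * (t * s) * t⁻¹ * (nu tp8 k v)⁻¹ := by group
    _ = nu tp8 k v * (s * t) * t⁻¹ * (nu tp8 k v)⁻¹ := by rw [h1]
    _ = _ := by group

include hk in
theorem RepE.mul {y y' : ↥(chevE8.group k)} {v v' : W8} (h : RepE k y v) (h' : RepE k y' v') :
    RepE k (y * y') (v * v') := by
  obtain ⟨hv, t, ht, rfl⟩ := h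
  obtain ⟨hv', t', ht', rfl⟩ := h'
  have h1 : (nu tp8 k v')⁻¹ * t * nu tp8 k v' ∈ E5 k := by
    have := nu_conj_E5 hk (inv_mem hv') ht
    rwa [map_inv, inv_inv] at this
  refine ⟨mul_mem hv hv', _, mul_mem h1 ht', ?_⟩
  rw [map_mul]
  group

include hk in
theorem RepE.pow {y : ↥(chevE8.group k)} {v : W8} (h : RepE k y v) (n : ℕ) : RepE k (y ^ n) (v ^ n) := by
  induction n with
  | zero =>
    rw [pow_zero, pow_zero]
    exact ⟨one_mem _, 1, one_mem _, by rw [map_one, mul_one]⟩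
  | succ n ih => rw [pow_succ, pow_succ]; exact ih.mul hk h

include hk in
/-- If all characters of `E5 k` agree on `x`, then `PP x = 0`. -/
theorem PP_eq_zero {x : Fin 8 → ℤ} (h : ∀ t ∈ E5 k, cX tp8 t x = 1) : PP x = 0 := by
  obtain ⟨ζ, hζ⟩ := exists_zeta k
  funext i
  obtain ⟨t, ht, h1⟩ := exists_E5 hk hζ (Pi.evalAddMonoidHom (fun _ : Fin 4 => ZMod 5) i)
  have h2 := h t ht
  rw [h1] at h2
  apply zval_inj hζ
  rw [Pi.zero_apply, ZMod.val_zero, pow_zero]
  exact h2

theorem cX_div {t : ↥(chevE8.group k)} (ht : t ∈ TT chevE8 k) {x y : Fin 8 → ℤ} :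
    cX tp8 t (x - y) = 1 ↔ cX tp8 t x = cX tp8 t y := by
  have hm := isMC_cX tp8 ht
  rw [sub_eq_add_neg, hm.add, hm.neg]
  exact mul_inv_eq_one₀ (hm.ne_zero y)

include hk in
/-- an element centralising `E5 k` represents 1. -/
theorem RepE.eq_one {y : ↥(chevE8.group k)} {v : W8} (h : RepE k y v) (hc : ∀ t ∈ E5 k, y * t = t * y) : v = 1 := by
  refine eq_one_of_PP fun x => ?_
  rw [← sub_eq_zero, ← map_sub]
  refine PP_eq_zero hk fun t ht => ?_
  rw [cX_div ht.1]
  have h1 := cX_nu hk v ht.1 x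
  rw [← h.conj hk ht, hc t ht, mul_inv_cancel_right] at h1
  exact h1

theorem RepE.mem {y : ↥(chevE8.group k)} (h : RepE k y 1) : y ∈ E5 k := by
  obtain ⟨-, t, ht, rfl⟩ := h
  rwa [map_one, one_mul]

include hk in
theorem RepE.of_norm {y : ↥(chevE8.group k)} (hy : y ∈ GG k) (h : ∀ t ∈ E5 k, y * t * y⁻¹ ∈ E5 k) :
    ∃ v, RepE k y v := by
  obtain ⟨v, hv, t, ht, e⟩ := norm_E5 hk hy h
  exact ⟨v, hv, t, ht, e⟩

include hk in
/-- the effect on `PP` of an element centralising a hyperplane -/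
theorem RepE.hyp {y : ↥(chevE8.group k)} {v : W8} (h : RepE k y v) {H : Subgroup ↥(chevE8.group k)} (hH : H ≤ E5 k)
    (hc : Nat.card ↥H = 125) (hyH : ∀ t ∈ H, y * t = t * y) :
    ∃ c : V4, c ≠ 0 ∧ (∀ x, ∃ m : ZMod 5, PP (act v x) = PP x + m • c) ∧
      ∀ x, (∀ t ∈ H, cX tp8 t x = 1) → ∃ m : ZMod 5, PP x = m • c := by
  obtain ⟨x₀, h0, h1, h2⟩ := exists_hyp hk hH hc
  refine ⟨PP x₀, h0, fun x => ?_, h2⟩
  obtain ⟨m, hm⟩ := h2 (act v x - x) fun t ht => by
    rw [cX_div (hH ht).1]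
    have h3 := cX_nu hk v (hH ht).1 x
    rw [← h.conj hk (hH ht), hyH t ht, mul_inv_cancel_right] at h3
    exact h3
  refine ⟨m, ?_⟩
  rw [← hm, ← map_add]
  congr 1
  abel

/-- powers of a transvection -/
theorem PP_pow {v : W8} {c : V4} {f : (Fin 8 → ℤ) → ZMod 5} (hf : ∀ x, PP (act v x) = PP x + f x • c)
    (hfv : ∀ x, f (act v x) = f x) (n : ℕ) (x : Fin 8 → ℤ) : PP (act (v ^ n) x) = PP x + ((n : ZMod 5) * f x) • c := by
  induction n generalizing x with
  | zero => rw [pow_zero, act_one, Nat.cast_zero, zero_mul, zero_smul, add_zero]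
  | succ n ih =>
    rw [pow_succ, act_mul, ih, hf, hfv]
    push_cast
    module

/-- **No transvections.** -/
theorem no_transv {v : W8} (hv : v ∈ CW) (h5 : ∃ n : ℕ, v ^ 5 ^ n = 1) (c : V4) (hc : c ≠ 0)
    (h : ∀ x, ∃ m : ZMod 5, PP (act v x) = PP x + m • c) : v = 1 := by
  choose f hf using h
  have hcc : ∀ {a b : ZMod 5}, a • c = b • c → a = b := fun {a b} e => smul_left_injective _ hc e
  have hadd : ∀ x y, f (x + y) = f x + f y := fun x y => hcc (by
    have h1 := hf (x + y)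
    rw [map_add, map_add, map_add, hf, hf] at h1
    have h2 : (f (x + y)) • c = PP x + f x • c + (PP y + f y • c) - (PP x + PP y) := by rw [h1]; abel
    rw [h2]; module)
  have hPP : ∀ x y, PP x = PP y → f x = f y := fun x y e => hcc (by
    have h1 := PP_act_congr hv e
    rw [hf, hf, e] at h1
    exact add_left_cancel h1)
  obtain ⟨x₁, hx₁⟩ := PP_surj c
  -- `v` multiplies `c` by `1 + f x₁`
  have hfv : ∀ x, f (act v x) = (1 + f x₁) * f x := fun x => by
    choose s hs using PP_surj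
    have e1 : PP (act v x) = PP (x + ((f x).val : ℤ) • x₁) := by
      rw [hf, map_add, map_zsmul, hx₁]
      congr 1
      rw [← Int.cast_smul_eq_zsmul (ZMod 5), Int.cast_natCast, ZMod.natCast_zmod_val]
    rw [hPP _ _ e1, hadd]
    have e2 : ∀ n : ℕ, f ((n : ℤ) • x₁) = (n : ZMod 5) * f x₁ := fun n => by
      induction n with
      | zero =>
        rw [Nat.cast_zero, zero_smul, Nat.cast_zero, zero_mul]
        have := hadd 0 0
        rw [add_zero] at this
        exact left_eq_add.1 this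
      | succ n ih => rw [Nat.cast_succ, add_smul, one_smul, hadd, ih, Nat.cast_succ]; ring
    rw [e2, ZMod.natCast_zmod_val]
    ring
  set q := 1 + f x₁ with hq
  have hfn : ∀ (n : ℕ) x, f (act (v ^ n) x) = q ^ n * f x := fun n => by
    induction n with
    | zero => intro x; rw [pow_zero, act_one, pow_zero, one_mul]
    | succ n ih => intro x; rw [pow_succ, act_mul, ih, hfv, pow_succ]; ring
  obtain ⟨n, hn⟩ := h5
  by_cases h0 : ∀ x, f x = 0
  · exact eq_one_of_PP fun x => by rw [hf, h0, zero_smul, add_zero]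
  · push Not at h0
    obtain ⟨x, hx⟩ := h0
    have h1 := hfn (5 ^ n) x
    rw [hn, act_one] at h1
    have h2 : q ^ 5 ^ n = 1 := by
      have := mul_right_cancel₀ hx (h1.symm.trans (one_mul _).symm)
      exact this
    have h3 : q = 1 := by
      have h4 : ∀ m : ℕ, q ^ 5 ^ m = q := fun m => by
        induction m with
        | zero => rw [pow_zero, pow_one]
        | succ m ih => rw [pow_succ, pow_mul, ih, ZMod.pow_card]
      rw [← h4 n, h2]
    have h5 : v ^ 5 = 1 := eq_one_of_PP fun x => by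
      rw [PP_pow hf (fun x => by rw [hfv, h3, one_mul]) 5 x]
      have : ((5 : ℕ) : ZMod 5) = 0 := by decide
      rw [this, zero_mul, zero_smul, add_zero]
    exact k1 hv h5 c fun x => ⟨f x, hf x⟩

/-- **Reflections.** -/
theorem refl_of {v : W8} (hv : v ∈ CW) (h2 : v ^ 2 = 1) (h1 : v ≠ 1) {a : Fin 8 → ℤ} (ha : Rt a)
    (h : ∀ x, ∃ m : ZMod 5, PP (act v x) = PP x + m • PP a) : v = rr a := by
  choose f hf using h
  have hc := PP_ne_zero ha
  have hcc : ∀ {m n : ZMod 5}, m • PP a = n • PP a → m = n := fun {m n} e => smul_left_injective _ hc e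
  have hadd : ∀ x y, f (x + y) = f x + f y := fun x y => hcc (by
    have h1 := hf (x + y)
    rw [map_add, map_add, map_add, hf, hf] at h1
    have h2 : (f (x + y)) • PP a = PP x + f x • PP a + (PP y + f y • PP a) - (PP x + PP y) := by rw [h1]; abel
    rw [h2]; module)
  have hPP : ∀ x y, PP x = PP y → f x = f y := fun x y e => hcc (by
    have h1 := PP_act_congr hv e
    rw [hf, hf, e] at h1
    exact add_left_cancel h1)
  have hmul : ∀ (m : ℤ) x, f (m • x) = (m : ZMod 5) * f x := fun m x => hcc (by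
    have h1 := hf (m • x)
    rw [map_smul, map_zsmul, map_zsmul, hf] at h1
    have h2 : f (m • x) • PP a = m • (PP x + f x • PP a) - m • PP x := by rw [h1]; abel
    rw [h2, ← Int.cast_smul_eq_zsmul (ZMod 5), ← Int.cast_smul_eq_zsmul (ZMod 5)]
    module)
  have hfv : ∀ x, f (act v x) = (1 + f a) * f x := fun x => by
    have e1 : PP (act v x) = PP (x + ((f x).val : ℤ) • a) := by
      rw [hf, map_add, map_zsmul]
      congr 1
      rw [← Int.cast_smul_eq_zsmul (ZMod 5), Int.cast_natCast, ZMod.natCast_zmod_val]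
    rw [hPP _ _ e1, hadd, hmul, Int.cast_natCast, ZMod.natCast_zmod_val]
    ring
  -- `f a = -2`
  obtain ⟨x, hx⟩ : ∃ x, f x ≠ 0 := by
    by_contra h0
    push Not at h0
    exact h1 (eq_one_of_PP fun x => by rw [hf, h0, zero_smul, add_zero])
  have h3 : f a = -2 := by
    have e1 := hf (act v x)
    rw [← act_mul, ← sq, h2, act_one, hf x, hfv, add_assoc, ← add_smul] at e1
    have e2 : (0 : ZMod 5) • PP a = (f x + (1 + f a) * f x) • PP a := by
      rw [zero_smul]; exact (left_eq_add.1 e1).symm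
    have e3 := hcc e2
    have e4 : (2 + f a) * f x = 0 := by rw [e3]; ring
    rcases mul_eq_zero.1 e4 with e5 | e5
    · exact eq_neg_of_add_eq_zero_right e5
    · exact absurd e5 hx
  -- `u = v * rr a`
  have hu : v * rr a = 1 := by
    let g : (Fin 8 → ℤ) → ZMod 5 := fun x => ((bf x a + 2 * bf x (act w8 a) : ℤ) : ZMod 5)
    have hg : ∀ x, PP (act (v * rr a) x) = PP x + (f x + g x) • PP a := fun x => by
      rw [act_mul, hf]
      have e1 : PP (act (rr a) x) = PP (x + (-(bf x a + 2 * bf x (act w8 a))) • a) := by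
        rw [PP_rr ha, map_add, map_zsmul, ← Int.cast_smul_eq_zsmul (ZMod 5), Int.cast_neg]
        module
      rw [hPP _ _ e1, hadd, hmul, PP_rr ha, h3]
      show PP x - g x • PP a + (f x + ((-(bf x a + 2 * bf x (act w8 a)) : ℤ) : ZMod 5) * -2) • PP a = _
      have e2 : ((-(bf x a + 2 * bf x (act w8 a)) : ℤ) : ZMod 5) = - g x := by
        show _ = - ((bf x a + 2 * bf x (act w8 a) : ℤ) : ZMod 5)
        rw [Int.cast_neg]
      rw [e2]
      module
    have hcom : v * rr a ∈ CW := mul_mem hv (rr_mem_CW ha)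
    have hga : f a + g a = 0 := by
      show f a + ((bf a a + 2 * bf a (act w8 a) : ℤ) : ZMod 5) = 0
      rw [h3, bf_self ha, act_w8_ne a]
      decide
    -- additivity of `f + g`
    have hgadd : ∀ x y, g (x + y) = g x + g y := fun x y => by
      show ((bf (x + y) a + 2 * bf (x + y) (act w8 a) : ℤ) : ZMod 5) =
        ((bf x a + 2 * bf x (act w8 a) : ℤ) : ZMod 5) + ((bf y a + 2 * bf y (act w8 a) : ℤ) : ZMod 5)
      rw [bf_add_left, bf_add_left]
      push_cast
      ring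
    have hPP' : ∀ x y, PP x = PP y → f x + g x = f y + g y := fun x y e => hcc (by
      have h1 := PP_act_congr hcom e
      rw [hg, hg, e] at h1
      exact add_left_cancel h1)
    have hmul' : ∀ m : ℕ, f ((m : ℤ) • a) + g ((m : ℤ) • a) = 0 := fun m => by
      have e1 : g ((m : ℤ) • a) = (m : ZMod 5) * g a := by
        show ((bf ((m : ℤ) • a) a + 2 * bf ((m : ℤ) • a) (act w8 a) : ℤ) : ZMod 5) = _ * ((_ : ℤ) : ZMod 5)
        rw [bf_smul_left, bf_smul_left]
        push_cast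
        ring
      rw [hmul, e1, Int.cast_natCast, ← mul_add, hga, mul_zero]
    have hh : ∀ x, f (act (v * rr a) x) + g (act (v * rr a) x) = f x + g x := fun x => by
      have e1 : PP (act (v * rr a) x) = PP (x + ((f x + g x).val : ℤ) • a) := by
        rw [hg, map_add, map_zsmul, ← Int.cast_smul_eq_zsmul (ZMod 5) ((f x + g x).val : ℤ), Int.cast_natCast,
          ZMod.natCast_zmod_val]
      rw [hPP' _ _ e1, hadd, hgadd]
      have e2 := hmul' (f x + g x).val
      linear_combination e2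
    have h5 : (v * rr a) ^ 5 = 1 := eq_one_of_PP fun x => by
      rw [PP_pow hg hh 5 x]
      have : ((5 : ℕ) : ZMod 5) = 0 := by decide
      rw [this, zero_mul, zero_smul, add_zero]
    exact k1 hcom h5 (PP a) fun x => ⟨_, hg x⟩
  calc v = v * (rr a * rr a) := by rw [rr_sq ha, mul_one]
    _ = rr a := by rw [← mul_assoc, hu, one_mul]

end Cfsg.Agent.H865.EE
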