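import Cfsg.Agent.H795.LangT
import Cfsg.Agent.H378.RootTor

/-!
# The Weyl group inside `D.group k` in characteristic 2 (helper865, S3384)

* `TT_two` : the torus of `D.group (ZMod 2)` is trivial;
* `nu hp f` : the homomorphism `W → D.group k`, `s_i ↦ n_i`;
* `nu_rp`, `nu_conj` : `nu v * x_a(c) * (nu v)⁻¹ = x_{v a}(c)`; `phi_nu` : fixed by the Frobenius automorphisms.
-/

set_option autoImplicit false
set_option linter.unusedSectionVars false

namespace Cfsg.Agent.H865.EE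

open CoxeterSystem Subgroup Cfsg Cfsg.Lie Cfsg.Lie.ChevalleyDatum
open Cfsg.Agent.ChevalleyStructure Cfsg.Agent.ChevalleyStructure.Elts Cfsg.Agent.ChevalleyStructure.CoxeterGeom
  Cfsg.Agent.ChevalleyStructure.CoxeterGeomTypes Cfsg.Agent.ChevalleyStructure.NPerm
open Cfsg.Agent.Tits.Roots Cfsg.Agent.Tits.Core Cfsg.Agent.Nodes Cfsg.Agent.Nodes.Reps Cfsg.Agent.Nodes.BNOf
  Cfsg.Agent.Nodes.RGDChev Cfsg.Agent.Nodes.Bruhat
open Cfsg.Agent.KFacts.RgdField Cfsg.Agent.KFacts.RgdChevCoord Cfsg.Agent.BpExc.TorCent Cfsg.Agent.BpExc.TorChev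
open Cfsg.Agent.GpExc.Field Cfsg.Agent.BpExc.Tow Cfsg.Agent.BpExc.TowChev Cfsg.Agent.BpExc.Fr
  Cfsg.Agent.BpExc.LangFr Cfsg.Agent.BpExc.FamField Cfsg.Agent.BpExc.FamInst Cfsg.Agent.H129.TorusChar
  Cfsg.Agent.H795.LangT Cfsg.Agent.BpExc.FamExt Cfsg.Agent.BpExc.FamUntw Cfsg.Agent.H378.TorDual Cfsg.Agent.H378.TorChar
  Cfsg.Agent.H378.TorFin Cfsg.Agent.H378.RankOne Cfsg.Agent.H378.RootTor



variable {D : ChevalleyDatum} {l : ℕ} {M : CoxeterMatrix (Fin l)} (hp : IsType D l M)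


include hp in
theorem TT_two {t : ↥(D.group (ZMod 2))} (ht : t ∈ TT D (ZMod 2)) : t = 1 := by
  refine cX_inj hp ht (one_mem _) fun i => ?_
  rw [cX_one]
  have h := (isMC_cX hp ht).ne_zero (sr i)
  revert h
  generalize cX hp t (sr i) = c
  revert c
  decide

theorem locFin_finite (F : Type) [Field F] [Finite F] : LocFin F := fun S _ =>
  ⟨⊤, inferInstance, Set.subset_univ S⟩

/-- the system of the `n_i` over the field with 2 elements -/
theorem nsys_two : NSys M (TT D (ZMod 2)) (nc hp (ZMod 2)) :=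
  nsysL hp M.toCoxeterSystem (locFin_finite (ZMod 2)) 2

theorem rel_two (i j : Fin l) : (nc hp (ZMod 2) i * nc hp (ZMod 2) j) ^ M i j = 1 :=
  TT_two hp ((nsys_two hp).rel i j)

/-- the embedding of the Weyl group into `D.group (ZMod 2)` -/
noncomputable def nu0 : M.Group →* ↥(D.group (ZMod 2)) :=
  M.toCoxeterSystem.lift ⟨nc hp (ZMod 2), fun i j => rel_two hp i j⟩

theorem nu0_simple (i : Fin l) : nu0 hp (M.toCoxeterSystem.simple i) = nc hp (ZMod 2) i :=
  M.toCoxeterSystem.lift_apply_simple _ i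

variable {k : Type} [Field k] [CharP k 2]

/-- the prime field -/
noncomputable def f2 (k : Type) [Field k] [CharP k 2] : ZMod 2 →+* k := ZMod.castHom (dvd_refl 2) k

/-- the embedding of the Weyl group -/
noncomputable def nu (k : Type) [Field k] [CharP k 2] : M.Group →* ↥(D.group k) :=
  (emb hp.inList (f2 k)).comp (nu0 hp)

theorem nu_simple (i : Fin l) : nu hp k (M.toCoxeterSystem.simple i) = nc hp k i := by
  rw [nu, MonoidHom.comp_apply, nu0_simple, emb_nc]

section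

variable (hk : LocFin k)

/-- `nu v` represents `v`. -/
theorem nu_rp (v : M.Group) : Rp M.toCoxeterSystem (nsysL hp M.toCoxeterSystem hk 2) v (nu hp k v) := by
  obtain ⟨ω, rfl⟩ := M.toCoxeterSystem.wordProd_surjective v
  induction ω with
  | nil =>
    rw [M.toCoxeterSystem.wordProd_nil, map_one]
    exact rp_one
  | cons i ω ih =>
    rw [M.toCoxeterSystem.wordProd_cons, map_mul, nu_simple]
    refine Rp.mul ?_ ih
    exact ⟨(nsysL hp M.toCoxeterSystem hk 2).norm i, wq_simple _ _ i⟩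

end

theorem nu0_rp (v : M.Group) : Rp M.toCoxeterSystem (nsys_two hp) v (nu0 hp v) := by
  obtain ⟨ω, rfl⟩ := M.toCoxeterSystem.wordProd_surjective v
  induction ω with
  | nil =>
    rw [M.toCoxeterSystem.wordProd_nil, map_one]
    exact rp_one
  | cons i ω ih =>
    rw [M.toCoxeterSystem.wordProd_cons, map_mul, nu0_simple]
    refine Rp.mul ?_ ih
    exact ⟨(nsys_two hp).norm i, wq_simple _ _ i⟩

/-- **`nu v * x_a(c) * (nu v)⁻¹ = x_{v a}(c)`.** -/
theorem nu_conj (hk : LocFin k) (v : M.Group) {a : Fin l → ℤ} (ha : IsRoot M.toCoxeterSystem hp.isCartan a) (c : k) :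
    nu hp k v * xc hp a c * (nu hp k v)⁻¹ = xc hp (rep M.toCoxeterSystem hp.isCartan v a) c := by
  obtain ⟨d, hd, h1⟩ := x_rp (coordsL hp M.toCoxeterSystem (locFin_finite (ZMod 2)) 2) _ (nu0_rp hp v) ha
  have hd1 : d = 1 := by
    have key : ∀ d : ZMod 2, d ≠ 0 → d = 1 := by decide
    exact key d hd
  subst hd1
  obtain ⟨e, he, h2⟩ := x_rp (coordsL hp M.toCoxeterSystem hk 2) _ (nu_rp hp hk v) ha
  have h3 := congrArg (emb hp.inList (f2 k)) (h1 1)
  rw [map_mul, map_mul, map_inv, BpExc.TowChev.emb_xc, BpExc.TowChev.emb_xc, mul_one, map_one] at h3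
  have h4 : nu hp k v * xc hp a 1 * (nu hp k v)⁻¹ = xc hp (rep M.toCoxeterSystem hp.isCartan v a) (1 : k) := h3
  have h5 := h2 1
  rw [h4, mul_one] at h5
  have h6 := (coordsL hp M.toCoxeterSystem hk 2).coord _ (ha.act v)
  have h7 : e = 1 := by
    obtain ⟨s, hs, hrs⟩ := (isRoot_iff hp M.toCoxeterSystem (rep M.toCoxeterSystem hp.isCartan v a)).1 (ha.act v)
    rw [← hrs] at h5
    exact (xc_inj hp hs h5).symm
  rw [h2, h7, one_mul]

variable [PerfectRing k 2]

theorem phi_nu (m : ℕ) (v : M.Group) : phi D k 2 m (nu hp k v) = nu hp k v := by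
  rw [nu, MonoidHom.comp_apply]
  apply Subtype.ext
  apply Units.ext
  rw [phi_coe]
  ext i j
  rw [Matrix.map_apply]
  have h1 : ∀ g : ↥(D.group (ZMod 2)), ∀ i j, ((((emb hp.inList (f2 k) g : ↥(D.group k)) : GL D.Idx k) :
      Matrix D.Idx D.Idx k) i j) = f2 k ((g : GL D.Idx (ZMod 2)) i j) := fun g i j => by
    rw [coe_emb]
    rfl
  rw [h1, ← map_pow]
  congr 1
  generalize ((nu0 hp v : ↥(D.group (ZMod 2))) : GL D.Idx (ZMod 2)) i j = c
  have h2 : c ^ 2 = c := by revert c; decide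
  induction m with
  | zero => rw [pow_zero, pow_one]
  | succ m ih => rw [pow_succ, pow_mul, ih, h2]

end Cfsg.Agent.H865.EE
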