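import Cfsg.Agent.H865.EE.Defs
import Cfsg.Agent.H865.EE.Nu

/-!
# Interface for S3384: the root lattice of `E₈` with `w₈² = -1` and the groups `GG`, `E5`, `XB b` (helper865)

* `act v x`, `Rt a`, `bf x y` (the form), `rf a` (reflections), `w8` (`act w8 (act w8 x) = -x`), `rr a = s_a s_(w8 a)`;
* `Quad b`, `Ph b` (roots in the span of `b`), `SS b = Ph b ∪ w8 (Ph b)`;
* `ta k y = nu w8 * y^(2) * (nu w8)⁻¹`, `GG k = Fix (ta k)`, `E5 k = T ⊓ GG k`, `KK k S`, `XB k b = KK k (SS b) ⊓ GG k`.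
-/

set_option autoImplicit false
set_option linter.unusedSectionVars false

namespace Cfsg.Agent.H865.EE

open CoxeterSystem Subgroup Cfsg Cfsg.Lie Cfsg.Lie.ChevalleyDatum
open Cfsg.Agent.ChevalleyStructure Cfsg.Agent.ChevalleyStructure.Elts Cfsg.Agent.ChevalleyStructure.CoxeterGeom
  Cfsg.Agent.ChevalleyStructure.CoxeterGeomTypes Cfsg.Agent.ChevalleyStructure.NPerm
open Cfsg.Agent.Tits.Roots Cfsg.Agent.Tits.Core Cfsg.Agent.Nodes Cfsg.Agent.Nodes.SubComb Cfsg.Agent.Nodes.Reps Cfsg.Agent.Nodes.BNOf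
  Cfsg.Agent.Nodes.RGDChev Cfsg.Agent.Nodes.Bruhat Cfsg.Agent.Nodes.Coroot
open Cfsg.Agent.KFacts.RgdField Cfsg.Agent.KFacts.RgdChevCoord Cfsg.Agent.BpExc.TorCent Cfsg.Agent.BpExc.TorChev
open Cfsg.Agent.GpExc.Field Cfsg.Agent.BpExc.Tow Cfsg.Agent.BpExc.TowChev Cfsg.Agent.BpExc.Fr
  Cfsg.Agent.BpExc.LangFr Cfsg.Agent.BpExc.FamField Cfsg.Agent.BpExc.FamInst Cfsg.Agent.H129.TorusChar
  Cfsg.Agent.H795.LangT Cfsg.Agent.BpExc.FamExt Cfsg.Agent.BpExc.FamUntw Cfsg.Agent.H378.TorDual Cfsg.Agent.H378.TorChar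
  Cfsg.Agent.H378.TorFin Cfsg.Agent.H378.RankOne Cfsg.Agent.H378.RootTor

/-! ### The root lattice -/

theorem tp8 : IsType chevE8 8 CoxeterMatrix.E₈ := by simp [IsType, typeList]
theorem tp4 : IsType chevD4 4 coxeterD4 := by simp [IsType, typeList]

/-- the Weyl group -/
abbrev W8 := CoxeterMatrix.E₈.Group

/-- the Coxeter system -/
abbrev cs8 : CoxeterSystem CoxeterMatrix.E₈ W8 := CoxeterMatrix.E₈.toCoxeterSystem

/-- the action on the root lattice -/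
noncomputable abbrev act (v : W8) : Module.End ℤ (Fin 8 → ℤ) := rep cs8 tp8.isCartan v

/-- the roots -/
abbrev Rt (a : Fin 8 → ℤ) : Prop := IsRoot cs8 tp8.isCartan a

instance : Finite W8 := finite_W tp8 cs8

/-- the Cartan matrix -/
def C8 : Fin 8 → Fin 8 → ℤ :=
  ![![2, 0, -1, 0, 0, 0, 0, 0], ![0, 2, 0, -1, 0, 0, 0, 0], ![-1, 0, 2, -1, 0, 0, 0, 0], ![0, -1, -1, 2, -1, 0, 0, 0],
    ![0, 0, 0, -1, 2, -1, 0, 0], ![0, 0, 0, 0, -1, 2, -1, 0], ![0, 0, 0, 0, 0, -1, 2, -1], ![0, 0, 0, 0, 0, 0, -1, 2]]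

theorem cartanOf_eq : cartanOf chevE8 8 = C8 := by
  funext i j
  revert i j
  decide +kernel

theorem C8_symm (i j : Fin 8) : C8 i j = C8 j i := by revert i j; decide +kernel

/-- the form -/
def bf (x y : Fin 8 → ℤ) : ℤ := ∑ i, ∑ j, x i * C8 i j * y j

theorem bf_comm (x y : Fin 8 → ℤ) : bf x y = bf y x := by
  unfold bf
  rw [Finset.sum_comm]
  refine Finset.sum_congr rfl fun i _ => Finset.sum_congr rfl fun j _ => ?_
  rw [C8_symm]; ring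

theorem bf_add_left (x x' y : Fin 8 → ℤ) : bf (x + x') y = bf x y + bf x' y := by
  simp only [bf, Pi.add_apply, add_mul, Finset.sum_add_distrib]

theorem bf_smul_left (m : ℤ) (x y : Fin 8 → ℤ) : bf (m • x) y = m * bf x y := by
  simp only [bf, Pi.smul_apply, smul_eq_mul, Finset.mul_sum, mul_assoc]

theorem bf_neg_left (x y : Fin 8 → ℤ) : bf (-x) y = -bf x y := by
  have := bf_smul_left (-1) x y
  rwa [neg_one_smul, neg_one_mul] at this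

theorem bf_sub_left (x x' y : Fin 8 → ℤ) : bf (x - x') y = bf x y - bf x' y := by
  rw [sub_eq_add_neg, bf_add_left, bf_neg_left, sub_eq_add_neg]

theorem bf_add_right (x y y' : Fin 8 → ℤ) : bf x (y + y') = bf x y + bf x y' := by
  rw [bf_comm, bf_add_left, bf_comm y, bf_comm y']

theorem bf_smul_right (m : ℤ) (x y : Fin 8 → ℤ) : bf x (m • y) = m * bf x y := by
  rw [bf_comm, bf_smul_left, bf_comm]

theorem bf_neg_right (x y : Fin 8 → ℤ) : bf x (-y) = -bf x y := by rw [bf_comm, bf_neg_left, bf_comm]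

theorem bf_sub_right (x y y' : Fin 8 → ℤ) : bf x (y - y') = bf x y - bf x y' := by
  rw [bf_comm, bf_sub_left, bf_comm y, bf_comm y']

theorem bf_sum_left {ι : Type*} (s : Finset ι) (f : ι → Fin 8 → ℤ) (y : Fin 8 → ℤ) :
    bf (∑ i ∈ s, f i) y = ∑ i ∈ s, bf (f i) y := by
  classical
  induction s using Finset.induction_on with
  | empty => simp [bf]
  | insert a s ha ih => rw [Finset.sum_insert ha, Finset.sum_insert ha, bf_add_left, ih]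

theorem bf_sr (x : Fin 8 → ℤ) (i : Fin 8) : bf x (sr i) = pairing (cartanOf chevE8 8) i x := by
  rw [cartanOf_eq]
  unfold bf pairing
  refine Finset.sum_congr rfl fun k _ => ?_
  rw [Finset.sum_eq_single i (fun j _ hj => by rw [sr_ne hj, mul_zero]) (fun h => absurd (Finset.mem_univ i) h),
    sr_self, mul_one, C8_symm, mul_comm]

theorem bf_sr_sr (i : Fin 8) : bf (sr i) (sr i) = 2 := by
  unfold bf
  rw [Finset.sum_eq_single i (fun j _ hj => ?_) (fun h => absurd (Finset.mem_univ i) h),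
    Finset.sum_eq_single i (fun j _ hj => by rw [sr_ne hj, mul_zero]) (fun h => absurd (Finset.mem_univ i) h), sr_self]
  · revert i; decide +kernel
  · refine Finset.sum_eq_zero fun k _ => ?_
    rw [sr_ne hj, zero_mul, zero_mul]

/-- `W` acts by isometries. -/
theorem bf_act (v : W8) (x y : Fin 8 → ℤ) : bf (act v x) (act v y) = bf x y := by
  obtain ⟨ω, rfl⟩ := cs8.wordProd_surjective v
  induction ω generalizing x y with
  | nil => rw [wordProd_nil]; show bf (rep _ _ 1 x) (rep _ _ 1 y) = _; rw [map_one, Module.End.one_apply, Module.End.one_apply]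
  | cons i ω ih =>
    rw [wordProd_cons]
    show bf (rep _ _ _ x) (rep _ _ _ y) = _
    rw [rep_mul_apply, rep_mul_apply, rep_simple_eq, rep_simple_eq, ← bf_sr, ← bf_sr]
    generalize hx : rep cs8 tp8.isCartan (cs8.wordProd ω) x = x'
    generalize hy : rep cs8 tp8.isCartan (cs8.wordProd ω) y = y'
    have h1 : bf x' y' = bf x y := by rw [← hx, ← hy]; exact ih x y
    rw [← h1, bf_sub_left, bf_sub_right, bf_sub_right, bf_smul_left, bf_smul_right, bf_smul_left, bf_smul_right, bf_sr_sr,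
      bf_comm (sr i) y']
    ring

theorem act_one (x : Fin 8 → ℤ) : act 1 x = x := by
  show rep _ _ 1 x = x
  rw [map_one, Module.End.one_apply]

theorem act_mul (u v : W8) (x : Fin 8 → ℤ) : act (u * v) x = act u (act v x) := rep_mul_apply ..

theorem act_ext {u v : W8} (h : ∀ x, act u x = act v x) : u = v :=
  rep_injective cs8 tp8.isCartan (LinearMap.ext h)

/-- For roots `y`, the coroot pairing is the form. -/
theorem cpr_eq (x : Fin 8 → ℤ) {y : Fin 8 → ℤ} (hy : Rt y) : cpr cs8 tp8.isCartan x y = bf x y := by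
  obtain ⟨w, i, rfl⟩ := hy
  rw [cpr_rep_sr, ← bf_sr, ← bf_act w, show act w (rep cs8 tp8.isCartan w⁻¹ x) = x from rep_apply_inv _ _ _ _]

theorem bf_self {a : Fin 8 → ℤ} (ha : Rt a) : bf a a = 2 := by rw [← cpr_eq a ha, cpr_self cs8 _ ha]

theorem exists_rf {a : Fin 8 → ℤ} (ha : Rt a) : ∃ v : W8, ∀ x, act v x = x - bf x a • a := by
  obtain ⟨w, i, h⟩ := id ha
  refine ⟨rfl' cs8 w i, fun x => ?_⟩
  rw [show act (rfl' cs8 w i) x = _ from rep_rfl'_eq cs8 tp8.isCartan w i x, ← h, cpr_eq x ha]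

open Classical in
/-- the reflection in the root `a` -/
noncomputable def rf (a : Fin 8 → ℤ) : W8 := if h : Rt a then (exists_rf h).choose else 1

theorem act_rf {a : Fin 8 → ℤ} (ha : Rt a) (x : Fin 8 → ℤ) : act (rf a) x = x - bf x a • a := by
  unfold rf
  rw [dif_pos ha]
  exact (exists_rf ha).choose_spec x

theorem rf_sq {a : Fin 8 → ℤ} (ha : Rt a) : rf a * rf a = 1 := by
  refine act_ext fun x => ?_
  rw [act_mul, act_one, act_rf ha, act_rf ha, bf_sub_left, bf_smul_left, bf_self ha, sub_sub, ← add_smul,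
    show bf x a + (bf x a - bf x a * 2) = 0 by ring, zero_smul, sub_zero]

theorem conj_rf (v : W8) {a : Fin 8 → ℤ} (ha : Rt a) : v * rf a * v⁻¹ = rf (act v a) := by
  refine act_ext fun x => ?_
  rw [act_mul, act_mul, act_rf ha, act_rf (ha.act v), map_sub, map_smul,
    show act v (act v⁻¹ x) = x from rep_apply_inv _ _ _ _]
  congr 2
  rw [← bf_act v, show act v (act v⁻¹ x) = x from rep_apply_inv _ _ _ _]

/-! ### The table of the roots -/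

/-- the 240 roots -/
def RL : List (List ℤ) := [
  [-2, -3, -4, -6, -5, -4, -3, -2], [-2, -3, -4, -6, -5, -4, -3, -1], [-2, -3, -4, -6, -5, -4, -2, -1], [-2, -3, -4, -6, -5, -3, -2, -1], [-2, -3, -4, -6, -4, -3, -2, -1], [-2, -3, -4, -5, -4, -3, -2, -1],
  [-2, -3, -3, -5, -4, -3, -2, -1], [-2, -2, -4, -5, -4, -3, -2, -1], [-2, -2, -3, -5, -4, -3, -2, -1], [-2, -2, -3, -4, -4, -3, -2, -1], [-2, -2, -3, -4, -3, -3, -2, -1], [-2, -2, -3, -4, -3, -2, -2, -1],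
  [-2, -2, -3, -4, -3, -2, -1, -1], [-2, -2, -3, -4, -3, -2, -1, 0], [-1, -3, -3, -5, -4, -3, -2, -1], [-1, -2, -3, -5, -4, -3, -2, -1], [-1, -2, -3, -4, -4, -3, -2, -1], [-1, -2, -3, -4, -3, -3, -2, -1],
  [-1, -2, -3, -4, -3, -2, -2, -1], [-1, -2, -3, -4, -3, -2, -1, -1], [-1, -2, -3, -4, -3, -2, -1, 0], [-1, -2, -2, -4, -4, -3, -2, -1], [-1, -2, -2, -4, -3, -3, -2, -1], [-1, -2, -2, -4, -3, -2, -2, -1],
  [-1, -2, -2, -4, -3, -2, -1, -1], [-1, -2, -2, -4, -3, -2, -1, 0], [-1, -2, -2, -3, -3, -3, -2, -1], [-1, -2, -2, -3, -3, -2, -2, -1], [-1, -2, -2, -3, -3, -2, -1, -1], [-1, -2, -2, -3, -3, -2, -1, 0],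
  [-1, -2, -2, -3, -2, -2, -2, -1], [-1, -2, -2, -3, -2, -2, -1, -1], [-1, -2, -2, -3, -2, -2, -1, 0], [-1, -2, -2, -3, -2, -1, -1, -1], [-1, -2, -2, -3, -2, -1, -1, 0], [-1, -2, -2, -3, -2, -1, 0, 0],
  [-1, -1, -2, -3, -3, -3, -2, -1], [-1, -1, -2, -3, -3, -2, -2, -1], [-1, -1, -2, -3, -3, -2, -1, -1], [-1, -1, -2, -3, -3, -2, -1, 0], [-1, -1, -2, -3, -2, -2, -2, -1], [-1, -1, -2, -3, -2, -2, -1, -1],
  [-1, -1, -2, -3, -2, -2, -1, 0], [-1, -1, -2, -3, -2, -1, -1, -1], [-1, -1, -2, -3, -2, -1, -1, 0], [-1, -1, -2, -3, -2, -1, 0, 0], [-1, -1, -2, -2, -2, -2, -2, -1], [-1, -1, -2, -2, -2, -2, -1, -1],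
  [-1, -1, -2, -2, -2, -2, -1, 0], [-1, -1, -2, -2, -2, -1, -1, -1], [-1, -1, -2, -2, -2, -1, -1, 0], [-1, -1, -2, -2, -2, -1, 0, 0], [-1, -1, -2, -2, -1, -1, -1, -1], [-1, -1, -2, -2, -1, -1, -1, 0],
  [-1, -1, -2, -2, -1, -1, 0, 0], [-1, -1, -2, -2, -1, 0, 0, 0], [-1, -1, -1, -2, -2, -2, -2, -1], [-1, -1, -1, -2, -2, -2, -1, -1], [-1, -1, -1, -2, -2, -2, -1, 0], [-1, -1, -1, -2, -2, -1, -1, -1],
  [-1, -1, -1, -2, -2, -1, -1, 0], [-1, -1, -1, -2, -2, -1, 0, 0], [-1, -1, -1, -2, -1, -1, -1, -1], [-1, -1, -1, -2, -1, -1, -1, 0], [-1, -1, -1, -2, -1, -1, 0, 0], [-1, -1, -1, -2, -1, 0, 0, 0],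
  [-1, -1, -1, -1, -1, -1, -1, -1], [-1, -1, -1, -1, -1, -1, -1, 0], [-1, -1, -1, -1, -1, -1, 0, 0], [-1, -1, -1, -1, -1, 0, 0, 0], [-1, -1, -1, -1, 0, 0, 0, 0], [-1, 0, -1, -1, -1, -1, -1, -1],
  [-1, 0, -1, -1, -1, -1, -1, 0], [-1, 0, -1, -1, -1, -1, 0, 0], [-1, 0, -1, -1, -1, 0, 0, 0], [-1, 0, -1, -1, 0, 0, 0, 0], [-1, 0, -1, 0, 0, 0, 0, 0], [-1, 0, 0, 0, 0, 0, 0, 0],
  [0, -1, -1, -2, -2, -2, -2, -1], [0, -1, -1, -2, -2, -2, -1, -1], [0, -1, -1, -2, -2, -2, -1, 0], [0, -1, -1, -2, -2, -1, -1, -1], [0, -1, -1, -2, -2, -1, -1, 0], [0, -1, -1, -2, -2, -1, 0, 0],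
  [0, -1, -1, -2, -1, -1, -1, -1], [0, -1, -1, -2, -1, -1, -1, 0], [0, -1, -1, -2, -1, -1, 0, 0], [0, -1, -1, -2, -1, 0, 0, 0], [0, -1, -1, -1, -1, -1, -1, -1], [0, -1, -1, -1, -1, -1, -1, 0],
  [0, -1, -1, -1, -1, -1, 0, 0], [0, -1, -1, -1, -1, 0, 0, 0], [0, -1, -1, -1, 0, 0, 0, 0], [0, -1, 0, -1, -1, -1, -1, -1], [0, -1, 0, -1, -1, -1, -1, 0], [0, -1, 0, -1, -1, -1, 0, 0],
  [0, -1, 0, -1, -1, 0, 0, 0], [0, -1, 0, -1, 0, 0, 0, 0], [0, -1, 0, 0, 0, 0, 0, 0], [0, 0, -1, -1, -1, -1, -1, -1], [0, 0, -1, -1, -1, -1, -1, 0], [0, 0, -1, -1, -1, -1, 0, 0],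
  [0, 0, -1, -1, -1, 0, 0, 0], [0, 0, -1, -1, 0, 0, 0, 0], [0, 0, -1, 0, 0, 0, 0, 0], [0, 0, 0, -1, -1, -1, -1, -1], [0, 0, 0, -1, -1, -1, -1, 0], [0, 0, 0, -1, -1, -1, 0, 0],
  [0, 0, 0, -1, -1, 0, 0, 0], [0, 0, 0, -1, 0, 0, 0, 0], [0, 0, 0, 0, -1, -1, -1, -1], [0, 0, 0, 0, -1, -1, -1, 0], [0, 0, 0, 0, -1, -1, 0, 0], [0, 0, 0, 0, -1, 0, 0, 0],
  [0, 0, 0, 0, 0, -1, -1, -1], [0, 0, 0, 0, 0, -1, -1, 0], [0, 0, 0, 0, 0, -1, 0, 0], [0, 0, 0, 0, 0, 0, -1, -1], [0, 0, 0, 0, 0, 0, -1, 0], [0, 0, 0, 0, 0, 0, 0, -1],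
  [0, 0, 0, 0, 0, 0, 0, 1], [0, 0, 0, 0, 0, 0, 1, 0], [0, 0, 0, 0, 0, 0, 1, 1], [0, 0, 0, 0, 0, 1, 0, 0], [0, 0, 0, 0, 0, 1, 1, 0], [0, 0, 0, 0, 0, 1, 1, 1],
  [0, 0, 0, 0, 1, 0, 0, 0], [0, 0, 0, 0, 1, 1, 0, 0], [0, 0, 0, 0, 1, 1, 1, 0], [0, 0, 0, 0, 1, 1, 1, 1], [0, 0, 0, 1, 0, 0, 0, 0], [0, 0, 0, 1, 1, 0, 0, 0],
  [0, 0, 0, 1, 1, 1, 0, 0], [0, 0, 0, 1, 1, 1, 1, 0], [0, 0, 0, 1, 1, 1, 1, 1], [0, 0, 1, 0, 0, 0, 0, 0], [0, 0, 1, 1, 0, 0, 0, 0], [0, 0, 1, 1, 1, 0, 0, 0],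
  [0, 0, 1, 1, 1, 1, 0, 0], [0, 0, 1, 1, 1, 1, 1, 0], [0, 0, 1, 1, 1, 1, 1, 1], [0, 1, 0, 0, 0, 0, 0, 0], [0, 1, 0, 1, 0, 0, 0, 0], [0, 1, 0, 1, 1, 0, 0, 0],
  [0, 1, 0, 1, 1, 1, 0, 0], [0, 1, 0, 1, 1, 1, 1, 0], [0, 1, 0, 1, 1, 1, 1, 1], [0, 1, 1, 1, 0, 0, 0, 0], [0, 1, 1, 1, 1, 0, 0, 0], [0, 1, 1, 1, 1, 1, 0, 0],
  [0, 1, 1, 1, 1, 1, 1, 0], [0, 1, 1, 1, 1, 1, 1, 1], [0, 1, 1, 2, 1, 0, 0, 0], [0, 1, 1, 2, 1, 1, 0, 0], [0, 1, 1, 2, 1, 1, 1, 0], [0, 1, 1, 2, 1, 1, 1, 1],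
  [0, 1, 1, 2, 2, 1, 0, 0], [0, 1, 1, 2, 2, 1, 1, 0], [0, 1, 1, 2, 2, 1, 1, 1], [0, 1, 1, 2, 2, 2, 1, 0], [0, 1, 1, 2, 2, 2, 1, 1], [0, 1, 1, 2, 2, 2, 2, 1],
  [1, 0, 0, 0, 0, 0, 0, 0], [1, 0, 1, 0, 0, 0, 0, 0], [1, 0, 1, 1, 0, 0, 0, 0], [1, 0, 1, 1, 1, 0, 0, 0], [1, 0, 1, 1, 1, 1, 0, 0], [1, 0, 1, 1, 1, 1, 1, 0],
  [1, 0, 1, 1, 1, 1, 1, 1], [1, 1, 1, 1, 0, 0, 0, 0], [1, 1, 1, 1, 1, 0, 0, 0], [1, 1, 1, 1, 1, 1, 0, 0], [1, 1, 1, 1, 1, 1, 1, 0], [1, 1, 1, 1, 1, 1, 1, 1],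
  [1, 1, 1, 2, 1, 0, 0, 0], [1, 1, 1, 2, 1, 1, 0, 0], [1, 1, 1, 2, 1, 1, 1, 0], [1, 1, 1, 2, 1, 1, 1, 1], [1, 1, 1, 2, 2, 1, 0, 0], [1, 1, 1, 2, 2, 1, 1, 0],
  [1, 1, 1, 2, 2, 1, 1, 1], [1, 1, 1, 2, 2, 2, 1, 0], [1, 1, 1, 2, 2, 2, 1, 1], [1, 1, 1, 2, 2, 2, 2, 1], [1, 1, 2, 2, 1, 0, 0, 0], [1, 1, 2, 2, 1, 1, 0, 0],
  [1, 1, 2, 2, 1, 1, 1, 0], [1, 1, 2, 2, 1, 1, 1, 1], [1, 1, 2, 2, 2, 1, 0, 0], [1, 1, 2, 2, 2, 1, 1, 0], [1, 1, 2, 2, 2, 1, 1, 1], [1, 1, 2, 2, 2, 2, 1, 0],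
  [1, 1, 2, 2, 2, 2, 1, 1], [1, 1, 2, 2, 2, 2, 2, 1], [1, 1, 2, 3, 2, 1, 0, 0], [1, 1, 2, 3, 2, 1, 1, 0], [1, 1, 2, 3, 2, 1, 1, 1], [1, 1, 2, 3, 2, 2, 1, 0],
  [1, 1, 2, 3, 2, 2, 1, 1], [1, 1, 2, 3, 2, 2, 2, 1], [1, 1, 2, 3, 3, 2, 1, 0], [1, 1, 2, 3, 3, 2, 1, 1], [1, 1, 2, 3, 3, 2, 2, 1], [1, 1, 2, 3, 3, 3, 2, 1],
  [1, 2, 2, 3, 2, 1, 0, 0], [1, 2, 2, 3, 2, 1, 1, 0], [1, 2, 2, 3, 2, 1, 1, 1], [1, 2, 2, 3, 2, 2, 1, 0], [1, 2, 2, 3, 2, 2, 1, 1], [1, 2, 2, 3, 2, 2, 2, 1],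
  [1, 2, 2, 3, 3, 2, 1, 0], [1, 2, 2, 3, 3, 2, 1, 1], [1, 2, 2, 3, 3, 2, 2, 1], [1, 2, 2, 3, 3, 3, 2, 1], [1, 2, 2, 4, 3, 2, 1, 0], [1, 2, 2, 4, 3, 2, 1, 1],
  [1, 2, 2, 4, 3, 2, 2, 1], [1, 2, 2, 4, 3, 3, 2, 1], [1, 2, 2, 4, 4, 3, 2, 1], [1, 2, 3, 4, 3, 2, 1, 0], [1, 2, 3, 4, 3, 2, 1, 1], [1, 2, 3, 4, 3, 2, 2, 1],
  [1, 2, 3, 4, 3, 3, 2, 1], [1, 2, 3, 4, 4, 3, 2, 1], [1, 2, 3, 5, 4, 3, 2, 1], [1, 3, 3, 5, 4, 3, 2, 1], [2, 2, 3, 4, 3, 2, 1, 0], [2, 2, 3, 4, 3, 2, 1, 1],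
  [2, 2, 3, 4, 3, 2, 2, 1], [2, 2, 3, 4, 3, 3, 2, 1], [2, 2, 3, 4, 4, 3, 2, 1], [2, 2, 3, 5, 4, 3, 2, 1], [2, 2, 4, 5, 4, 3, 2, 1], [2, 3, 3, 5, 4, 3, 2, 1],
  [2, 3, 4, 5, 4, 3, 2, 1], [2, 3, 4, 6, 4, 3, 2, 1], [2, 3, 4, 6, 5, 3, 2, 1], [2, 3, 4, 6, 5, 4, 2, 1], [2, 3, 4, 6, 5, 4, 3, 1], [2, 3, 4, 6, 5, 4, 3, 2]]

theorem vec_tab : (List.range 240).map (fun r => (List.finRange 8).map (vec chevE8 8 r)) = RL := by decide +kernel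

/-- a vector as a list -/
def toL (a : Fin 8 → ℤ) : List ℤ := (List.finRange 8).map a

theorem toL_inj {a b : Fin 8 → ℤ} (h : toL a = toL b) : a = b := by
  funext i
  exact (List.map_inj_left.1 h) i (List.mem_finRange i)

theorem rt_iff (a : Fin 8 → ℤ) : Rt a ↔ toL a ∈ RL := by
  rw [← vec_tab]
  constructor
  · intro h
    obtain ⟨r, hr, rfl⟩ := (RGDChev.isRoot_iff tp8 cs8 a).1 h
    have hn : chevE8.nroots = 240 := by decide +kernel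
    exact List.mem_map.2 ⟨r, List.mem_range.2 (hn ▸ hr), rfl⟩
  · intro h
    obtain ⟨r, hr, h1⟩ := List.mem_map.1 h
    have hn : chevE8.nroots = 240 := by decide +kernel
    exact (RGDChev.isRoot_iff tp8 cs8 a).2 ⟨r, hn ▸ List.mem_range.1 hr, toL_inj h1⟩

/-! ### The element `w8` -/

/-- a reduced word of `w8` -/
def wL : List (Fin 8) := [0, 1, 2, 3, 1, 2, 4, 3, 1, 2, 0, 3, 2, 6, 5, 4, 3, 1, 2, 0, 3, 2, 4, 3, 1, 5, 4, 6, 7, 6, 5, 4, 3, 1, 2, 0, 3, 2, 4, 3, 1, 5, 4, 3, 2, 0, 6, 5, 4, 3, 1, 2, 3, 4, 7, 6, 5, 4, 3, 2]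

/-- `w8² = -1` -/
noncomputable def w8 : W8 := cs8.wordProd wL

/-- the matrix of `w8` on the root lattice -/
def WM : Fin 8 → Fin 8 → ℤ := ![![1, 0, 0, 0, 0, -2, 2, 0], ![2, 1, 0, -1, 0, -2, 3, -1], ![2, 1, 0, -1, 0, -3, 4, 0], ![3, 2, 0, -2, 1, -5, 6, -1], ![3, 2, 0, -2, 1, -4, 4, 0], ![3, 1, -1, -1, 1, -3, 3, 0], ![2, 1, -1, -1, 1, -2, 2, 0], ![1, 1, -1, 0, 0, -1, 1, 0]]

/-- computable simple reflections on vectors -/
def sv (i : Fin 8) (x : Fin 8 → ℤ) : Fin 8 → ℤ := fun j => if j = i then x i - ∑ k, C8 i k * x k else x j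

theorem act_simple (i : Fin 8) (x : Fin 8 → ℤ) : act (cs8.simple i) x = sv i x := by
  funext j
  show rep _ _ _ x j = _
  rw [rep_simple_eq, Pi.sub_apply, Pi.smul_apply, smul_eq_mul, cartanOf_eq]
  unfold sv pairing
  by_cases hj : j = i
  · subst hj; rw [sr_self, if_pos rfl, mul_one]
  · rw [sr_ne hj, if_neg hj, mul_zero, sub_zero]

theorem act_wordProd (ω : List (Fin 8)) (x : Fin 8 → ℤ) : act (cs8.wordProd ω) x = ω.foldr sv x := by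
  induction ω with
  | nil => rw [wordProd_nil, act_one]; rfl
  | cons i ω ih => rw [wordProd_cons, act_mul, ih, act_simple]; rfl

/-- list version of the simple reflections (for evaluation) -/
def svL (i : Fin 8) (x : List ℤ) : List ℤ :=
  (List.finRange 8).map fun j => if j = i then x.getD i 0 - ((List.finRange 8).map fun k => C8 i k * x.getD k 0).sum
    else x.getD j 0

theorem getD_toL (x : Fin 8 → ℤ) (j : Fin 8) : (toL x).getD j 0 = x j := by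
  unfold toL
  rw [List.getD_eq_getElem?_getD, List.getElem?_map, List.getElem?_eq_getElem (by simp)]
  simp

theorem toL_sv (i : Fin 8) (x : Fin 8 → ℤ) : toL (sv i x) = svL i (toL x) := by
  unfold svL
  rw [show toL (sv i x) = (List.finRange 8).map (sv i x) from rfl]
  refine List.map_congr_left fun j _ => ?_
  simp only [getD_toL]
  unfold sv
  rw [← List.sum_ofFn, List.ofFn_eq_map]

theorem toL_act (ω : List (Fin 8)) (x : Fin 8 → ℤ) : toL (act (cs8.wordProd ω) x) = ω.foldr svL (toL x) := by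
  rw [act_wordProd]
  induction ω with
  | nil => rfl
  | cons i ω ih => rw [List.foldr_cons, List.foldr_cons, toL_sv, ih]

theorem act_w8_sr (j : Fin 8) : act w8 (sr j) = fun i => WM i j := by
  apply toL_inj
  rw [w8, toL_act]
  revert j
  decide +kernel

theorem act_w8 (x : Fin 8 → ℤ) : act w8 x = fun i => ∑ j, WM i j * x j := by
  have h1 : x = ∑ j, x j • (sr j : Fin 8 → ℤ) := by
    funext i
    rw [Finset.sum_apply, Finset.sum_eq_single i (fun j _ hj => by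
      rw [Pi.smul_apply, sr_ne hj.symm, smul_zero]) (fun h => absurd (Finset.mem_univ i) h), Pi.smul_apply, sr_self,
      smul_eq_mul, mul_one]
  conv_lhs => rw [h1]
  rw [map_sum]
  funext i
  rw [Finset.sum_apply]
  refine Finset.sum_congr rfl fun j _ => ?_
  rw [map_smul, act_w8_sr, Pi.smul_apply, smul_eq_mul, mul_comm]

/-- **`w8² = -1`.** -/
theorem w8_sq (x : Fin 8 → ℤ) : act w8 (act w8 x) = -x := by
  have key : ∀ i j : Fin 8, ∑ k, WM i k * WM k j = if i = j then -1 else 0 := by decide +kernel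
  rw [act_w8 x, act_w8]
  funext i
  rw [Pi.neg_apply]
  calc ∑ k, WM i k * ∑ j, WM k j * x j = ∑ j, (∑ k, WM i k * WM k j) * x j := by
        simp only [Finset.mul_sum, Finset.sum_mul]
        rw [Finset.sum_comm]
        refine Finset.sum_congr rfl fun j _ => Finset.sum_congr rfl fun k _ => by ring
    _ = ∑ j, (if i = j then -1 else 0) * x j := Finset.sum_congr rfl fun j _ => by rw [key]
    _ = -x i := by simp

/-- the reflection of order 2 of the complex reflection group `C_W(w8)` attached to the root `a` -/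
noncomputable def rr (a : Fin 8 → ℤ) : W8 := rf a * rf (act w8 a)

/-- the centraliser of `w8` -/
noncomputable def CW : Subgroup W8 := Subgroup.centralizer {w8}

theorem mem_CW {v : W8} : v ∈ CW ↔ ∀ x, act v (act w8 x) = act w8 (act v x) := by
  rw [CW, Subgroup.mem_centralizer_singleton_iff]
  constructor
  · intro h x
    rw [← act_mul, ← act_mul, h]
  · intro h
    refine act_ext fun x => ?_
    rw [act_mul, act_mul, h]

/-- **Quadruples of roots of type `D₄`** (central node 1) orthogonal to their image under `w8` -/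
structure Quad (b : Fin 4 → Fin 8 → ℤ) : Prop where
  root : ∀ i, Rt (b i)
  ad : ∀ i j, i ≠ j → bf (b i) (b j) = if Adj i j then -1 else 0
  orth : ∀ i j, bf (b i) (act w8 (b j)) = 0

/-- the roots in the span of `b` -/
def Ph (b : Fin 4 → Fin 8 → ℤ) : Set (Fin 8 → ℤ) := {a | Rt a ∧ ∃ c : Fin 4 → ℤ, a = ∑ i, c i • b i}

/-- the roots in the span of `b` or of `w8 b` -/
def SS (b : Fin 4 → Fin 8 → ℤ) : Set (Fin 8 → ℤ) := {a | a ∈ Ph b ∨ ∃ a' ∈ Ph b, a = act w8 a'}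

/-! ### The groups -/

section Grp

variable (k : Type) [Field k] [CharP k 2] [IsAlgClosed k] [PerfectRing k 2]

/-- the Frobenius endomorphism -/
noncomputable def ta : ↥(chevE8.group k) →* ↥(chevE8.group k) := tau chevE8 k 2 1 (nu tp8 k w8)

/-- the fixed points of `ta` -/
noncomputable def GG : Subgroup ↥(chevE8.group k) := (ta k).eqLocus (MonoidHom.id _)

/-- the torus of order 625 -/
noncomputable def E5 : Subgroup ↥(chevE8.group k) := TT chevE8 k ⊓ GG k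

/-- the subgroup generated by the root subgroups of a set of roots -/
noncomputable def KK (S : Set (Fin 8 → ℤ)) : Subgroup ↥(chevE8.group k) :=
  Subgroup.closure {g | ∃ a ∈ S, ∃ c : k, g = xc tp8 a c}

/-- the subgroup `Ω₈⁺(4)` attached to `b` -/
noncomputable def XB (b : Fin 4 → Fin 8 → ℤ) : Subgroup ↥(chevE8.group k) := KK k (SS b) ⊓ GG k

end Grp

end Cfsg.Agent.H865.EE
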