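import Mathlib
import Cfsg.Prelude.Def_Classical

/-!
# The `D₄`-system of `Ω₈⁺(4)` (helper865, S3384)

`D4Sys X` : `E ≤ X` abelian of order `5⁴`, four hyperplanes `H i` of `E`, four perfect subgroups `L i` centralising `H i`
and generating `X`, `n i ∈ L i` inducing on `E` reflections which satisfy the relations of the diagram `D₄`
(the node 1 is the central one).
-/

set_option autoImplicit false

namespace Cfsg.Agent.H865.EE

/-- adjacency in the diagram `D₄` with central node 1 -/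
def Adj (i j : Fin 4) : Prop := i ≠ j ∧ (i = 1 ∨ j = 1)

instance (i j : Fin 4) : Decidable (Adj i j) := by unfold Adj; infer_instance

/-- See the module docstring. -/
def D4Sys (X : Type*) [Group X] : Prop :=
  ∃ (E : Subgroup X) (H L : Fin 4 → Subgroup X) (n : Fin 4 → X),
    Nat.card E = 625 ∧ (∀ a ∈ E, ∀ b ∈ E, a * b = b * a) ∧
    (∀ i, H i ≤ E) ∧ (∀ i, Nat.card (H i) = 125) ∧
    (∀ i, ⁅L i, L i⁆ = L i) ∧ (∀ i, L i ≠ ⊥) ∧ (∀ i, ∀ x ∈ L i, ∀ h ∈ H i, x * h = h * x) ∧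
    (∀ i, n i ∈ L i) ∧ (∀ i, ∀ e ∈ E, n i * e * (n i)⁻¹ ∈ E) ∧
    (∀ i, ∀ e ∈ E, n i ^ 2 * e = e * n i ^ 2) ∧ (∀ i, ∃ e ∈ E, n i * e ≠ e * n i) ∧
    (∀ i j, i ≠ j → ∃ e ∈ E, (n i * n j) * e ≠ e * (n i * n j)) ∧
    (∀ i j, Adj i j → ∀ e ∈ E, (n i * n j) ^ 3 * e = e * (n i * n j) ^ 3) ∧
    (∀ i j, i ≠ j → ¬ Adj i j → ∀ e ∈ E, (n i * n j) ^ 2 * e = e * (n i * n j) ^ 2) ∧
    (⨆ i, L i) = ⊤

theorem D4Sys.congr {X Y : Type*} [Group X] [Group Y] (f : X ≃* Y) (h : D4Sys X) : D4Sys Y := by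
  obtain ⟨E, H, L, n, h1, h2, h3, h4, h5, h6, h7, h8, h9, h10, h11, h12, h13, h14, h15⟩ := h
  have hm : ∀ (K : Subgroup X) (y : Y), y ∈ K.map f.toMonoidHom ↔ f.symm y ∈ K := by
    intro K y
    rw [Subgroup.mem_map]
    constructor
    · rintro ⟨x, hx, rfl⟩
      show f.symm (f x) ∈ K
      rwa [f.symm_apply_apply]
    · intro hy
      exact ⟨f.symm y, hy, f.apply_symm_apply y⟩
  have hinj : Function.Injective f.toMonoidHom := f.injective
  refine ⟨E.map f.toMonoidHom, fun i => (H i).map f.toMonoidHom, fun i => (L i).map f.toMonoidHom, fun i => f (n i),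
    ?_, ?_, ?_, ?_, ?_, ?_, ?_, ?_, ?_, ?_, ?_, ?_, ?_, ?_, ?_⟩
  · rw [Subgroup.card_map_of_injective hinj, h1]
  · rintro _ ⟨a, ha, rfl⟩ _ ⟨b, hb, rfl⟩
    rw [← map_mul, ← map_mul, h2 a ha b hb]
  · exact fun i => Subgroup.map_mono (h3 i)
  · exact fun i => by rw [Subgroup.card_map_of_injective hinj, h4 i]
  · exact fun i => by rw [← Subgroup.map_commutator, h5 i]
  · intro i hi
    exact h6 i ((Subgroup.map_eq_bot_iff_of_injective _ hinj).1 hi)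
  · rintro i _ ⟨x, hx, rfl⟩ _ ⟨y, hy, rfl⟩
    rw [← map_mul, ← map_mul, h7 i x hx y hy]
  · exact fun i => ⟨n i, h8 i, rfl⟩
  · rintro i _ ⟨e, he, rfl⟩
    exact ⟨_, h9 i e he, by rw [map_mul, map_mul, map_inv]; rfl⟩
  · rintro i _ ⟨e, he, rfl⟩
    show f (n i) ^ 2 * f e = f e * f (n i) ^ 2
    rw [← map_pow, ← map_mul, ← map_mul, h10 i e he]
  · intro i
    obtain ⟨e, he, hne⟩ := h11 i
    refine ⟨f e, ⟨e, he, rfl⟩, fun h => hne (f.injective ?_)⟩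
    rw [map_mul, map_mul, h]
  · intro i j hij
    obtain ⟨e, he, hne⟩ := h12 i j hij
    refine ⟨f e, ⟨e, he, rfl⟩, fun h => hne (f.injective ?_)⟩
    rw [map_mul, map_mul f e, map_mul]
    exact h
  · rintro i j hij _ ⟨e, he, rfl⟩
    show (f (n i) * f (n j)) ^ 3 * f e = f e * (f (n i) * f (n j)) ^ 3
    rw [← map_mul, ← map_pow, ← map_mul, ← map_mul, h13 i j hij e he]
  · rintro i j hij hij' _ ⟨e, he, rfl⟩
    show (f (n i) * f (n j)) ^ 2 * f e = f e * (f (n i) * f (n j)) ^ 2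
    rw [← map_mul, ← map_pow, ← map_mul, ← map_mul, h14 i j hij hij' e he]
  · rw [← Subgroup.map_iSup, h15, ← MonoidHom.range_eq_map, MonoidHom.range_eq_top]
    exact f.surjective

end Cfsg.Agent.H865.EE
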