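import Cfsg.Agent.H865.EE.Tor
import Cfsg.Agent.H111.EE.K1
import Cfsg.Agent.H129.EE.NFive
import Cfsg.Agent.H129.EE.LangE
import Cfsg.Agent.H299.EE.Conj
import Cfsg.Agent.H799.EE.Rescale

/-!
# The pieces of S3384, first part (helper865; authors: helper111, helper129, helper299, helper799)
-/

set_option autoImplicit false
set_option linter.unusedSectionVars false

namespace Cfsg.Agent.H865.EE
open CoxeterSystem Subgroup Cfsg Cfsg.Lie Cfsg.Lie.ChevalleyDatum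
open Cfsg.Agent.Nodes.RGDChev Cfsg.Agent.BpExc.LangFr Cfsg.Agent.GpExc.Field Cfsg.Agent.BpExc.TorCent
  Cfsg.Agent.BpExc.TowChev Cfsg.Agent.KFacts.RgdChevCoord

universe u

theorem k1 {v : W8} (hv : v ∈ CW) (h5 : v ^ 5 = 1) (c : Fin 4 → ZMod 5)
    (h : ∀ x, ∃ m : ZMod 5, PP (act v x) = PP x + m • c) : v = 1 := H111.EE.k1 hv h5 c h

variable {k : Type} [Field k] [CharP k 2] [PerfectRing k 2] [IsAlgClosed k] (hk : LocFin k)

include hk in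
theorem cent_E5 {y : ↥(chevE8.group k)} (h : ∀ t ∈ E5 k, y * t = t * y) : y ∈ TT chevE8 k := H129.EE.cent_E5 hk h

include hk in
theorem norm_E5 {y : ↥(chevE8.group k)} (hy : y ∈ GG k) (h : ∀ t ∈ E5 k, y * t * y⁻¹ ∈ E5 k) :
    ∃ v ∈ CW, ∃ t ∈ E5 k, y = nu tp8 k v * t := H129.EE.norm_E5 hk hy h

include hk in
theorem nu_mem_GG {v : W8} (hv : v ∈ CW) : nu tp8 k v ∈ GG k := H129.EE.nu_mem_GG hv

include hk in
theorem conj_XB {v : W8} (hv : v ∈ CW) (b : Fin 4 → Fin 8 → ℤ) :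
    (XB k b).map (MulAut.conj (nu tp8 k v)).toMonoidHom = XB k (fun i => act v (b i)) := H129.EE.conj_XB hk hv b

include hk in
theorem finite_GG : Finite ↥(GG k) := H129.EE.finite_GG

include hk in
theorem not_dvd_GG : ¬ 5 ^ 6 ∣ Nat.card ↥(GG k) := H129.EE.not_dvd_card

include hk in
theorem exists_GG_equiv : Nonempty (↥(GG k) ≃* ↥(chevE8.group (ZMod 2))) := H129.EE.exists_GG_equiv

theorem conj_of {G : Type u} [Group G] [Finite G] (E : Subgroup G) (hE : Nat.card E = 625)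
    (hab : ∀ a ∈ E, ∀ b ∈ E, a * b = b * a) (hG : ¬ 5 ^ 6 ∣ Nat.card G)
    (key : ∀ x : G, (∃ n : ℕ, x ^ 5 ^ n = 1) → (∀ e ∈ E, x * e * x⁻¹ ∈ E) →
      (∃ H : Subgroup G, H ≤ E ∧ Nat.card H = 125 ∧ ∀ h ∈ H, x * h = h * x) → x ∈ E)
    (A : Subgroup G) (hA : Nat.card A = 625) (hA2 : ∀ a ∈ A, ∀ b ∈ A, a * b = b * a) :
    ∃ g : G, A.map (MulAut.conj g).toMonoidHom = E := H299.EE.conj_of E hE hab hG key A hA hA2

theorem exists_quad (a : Fin 4 → Fin 8 → ℤ) (ha : ∀ i, Rt (a i)) (h1 : ∀ i j, i ≠ j → rr (a i) * rr (a j) ≠ 1)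
    (h3 : ∀ i j, Adj i j → (rr (a i) * rr (a j)) ^ 3 = 1) (h2 : ∀ i j, i ≠ j → ¬ Adj i j → (rr (a i) * rr (a j)) ^ 2 = 1) :
    ∃ b : Fin 4 → Fin 8 → ℤ, Quad b ∧ ∀ i, b i = a i ∨ b i = -a i ∨ b i = act w8 (a i) ∨ b i = -act w8 (a i) := by
  obtain ⟨b, hb, -, hq⟩ := H799.EE.rescale a ha h1 h3 h2
  exact ⟨b, hq, hb⟩

end Cfsg.Agent.H865.EE
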