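import Cfsg.Agent.H865.EE.Main2

/-!
# S3384 (helper865)
-/

set_option autoImplicit false
set_option linter.unusedSectionVars false

namespace Cfsg.Agent.H865.EE

open CoxeterSystem Subgroup Cfsg Cfsg.Lie Cfsg.Lie.ChevalleyDatum
open Cfsg.Agent.ChevalleyStructure Cfsg.Agent.ChevalleyStructure.Elts Cfsg.Agent.ChevalleyStructure.CoxeterGeom
  Cfsg.Agent.ChevalleyStructure.CoxeterGeomTypes Cfsg.Agent.ChevalleyStructure.NPerm
open Cfsg.Agent.Tits.Roots Cfsg.Agent.Tits.Core Cfsg.Agent.Nodes Cfsg.Agent.Nodes.SubComb Cfsg.Agent.Nodes.Reps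
  Cfsg.Agent.Nodes.BNOf Cfsg.Agent.Nodes.RGDChev Cfsg.Agent.Nodes.Bruhat Cfsg.Agent.Nodes.Coroot
open Cfsg.Agent.KFacts.RgdField Cfsg.Agent.KFacts.RgdChevCoord Cfsg.Agent.BpExc.TorCent Cfsg.Agent.BpExc.TorChev
open Cfsg.Agent.GpExc.Field Cfsg.Agent.BpExc.Tow Cfsg.Agent.BpExc.TowChev Cfsg.Agent.BpExc.Fr
  Cfsg.Agent.BpExc.LangFr Cfsg.Agent.BpExc.FamField Cfsg.Agent.BpExc.FamInst Cfsg.Agent.H129.TorusChar
  Cfsg.Agent.H795.LangT Cfsg.Agent.BpExc.FamExt Cfsg.Agent.BpExc.FamUntw Cfsg.Agent.H378.TorDual Cfsg.Agent.H378.TorChar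
  Cfsg.Agent.H378.TorFin Cfsg.Agent.H378.RankOne Cfsg.Agent.H378.RootTor

attribute [local irreducible] w8

universe u

theorem main_aux {k : Type} [Field k] [CharP k 2] [PerfectRing k 2] [IsAlgClosed k] (hk : LocFin k) (F₄ : Type u) [Field F₄] [Fintype F₄] (hF₄ : Fintype.card F₄ = 4)
    (classes : (Subgroup ↥(Cfsg.Lie.chevE8.group (ZMod 2)) → Prop) → ℕ → Prop)
    (hclasses : ∀ (P : Subgroup ↥(Cfsg.Lie.chevE8.group (ZMod 2)) → Prop) (k : ℕ), classes P k ↔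
      ∃ f : Fin k → Subgroup ↥(Cfsg.Lie.chevE8.group (ZMod 2)), (∀ i, P (f i)) ∧
        (∀ i j, (∃ g : ↥(Cfsg.Lie.chevE8.group (ZMod 2)), (f i).map (MulAut.conj g).toMonoidHom = f j) → i = j) ∧
        (∀ H, P H → ∃ (i : Fin k) (g : ↥(Cfsg.Lie.chevE8.group (ZMod 2))), H.map (MulAut.conj g).toMonoidHom = f i)) :
    classes (fun H => Nonempty (H ≃* Cfsg.Omega F₄ (Cfsg.quadFormPlus 4 F₄))) 2 ∧
    classes (fun H => Nonempty (Cfsg.generalizedFittingSubgroup H ≃* Cfsg.Omega F₄ (Cfsg.quadFormPlus 4 F₄)) ∧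
      (Cfsg.generalizedFittingSubgroup H).index = 3) 1 ∧
    classes (fun H => Nonempty (Cfsg.generalizedFittingSubgroup H ≃* Cfsg.Omega F₄ (Cfsg.quadFormPlus 4 F₄)) ∧
      (Cfsg.generalizedFittingSubgroup H).index = 4) 2 ∧
    classes (fun H => Nonempty (Cfsg.generalizedFittingSubgroup H ≃* Cfsg.Omega F₄ (Cfsg.quadFormPlus 4 F₄)) ∧
      (Cfsg.generalizedFittingSubgroup H).index = 12) 1 := by
  obtain ⟨e⟩ := exists_GG_equiv (k := k) hk
  have := finite_GG (k := k) hk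
  have hcard : ∀ {B : Subgroup ↥(chevE8.group k)}, B ≤ GG k → Nat.card ↥(B.subgroupOf (GG k)) = Nat.card ↥B :=
    fun {B} h => Nat.card_congr (Subgroup.subgroupOfEquivOfLe h).toEquiv
  have hiso : ∀ {b : Fin 4 → Fin 8 → ℤ}, Quad b →
      Nonempty (↥((XB k b).subgroupOf (GG k)) ≃* ↥(Cfsg.Omega F₄ (Cfsg.quadFormPlus 4 F₄))) := fun {b} hb => by
    obtain ⟨f⟩ := xb_iso hk hb F₄ hF₄
    exact ⟨(Subgroup.subgroupOfEquivOfLe (XB_le b)).trans f⟩
  have hconj : ∀ (X : Subgroup ↥(GG k)) (b : Fin 4 → Fin 8 → ℤ) (g : ↥(GG k)),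
      X.map (MulAut.conj g).toMonoidHom = (XB k b).subgroupOf (GG k) ↔
        (X.map (GG k).subtype).map (MulAut.conj g.1).toMonoidHom = XB k b := by
    intro X b g
    have h1 : (X.map (GG k).subtype).map (MulAut.conj g.1).toMonoidHom =
        (X.map (MulAut.conj g).toMonoidHom).map (GG k).subtype := by
      rw [Subgroup.map_map, Subgroup.map_map]
      rfl
    have h2 : ((XB k b).subgroupOf (GG k)).map (GG k).subtype = XB k b := by
      rw [Subgroup.subgroupOf_map_subtype, inf_eq_left]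
      exact XB_le b
    rw [h1]
    constructor
    · intro h; rw [h, h2]
    · intro h
      rw [← h2] at h
      exact Subgroup.map_injective (GG k).subtype_injective h
  have hcent : ∀ {b : Fin 4 → Fin 8 → ℤ}, Quad b → Subgroup.centralizer ((XB k b).subgroupOf (GG k) : Set ↥(GG k)) = ⊥ :=
    fun {b} hb => by
    rw [eq_bot_iff]
    intro y hy
    rw [Subgroup.mem_bot]
    refine Subtype.ext (cent_XB hk F₄ hF₄ hb y.2 fun x hx => ?_)
    exact congrArg Subtype.val (Subgroup.mem_centralizer_iff.1 hy ⟨x, XB_le b hx⟩ (Subgroup.mem_subgroupOf.2 hx))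
  have hfin := @final_of ↥(GG k) ↥(chevE8.group (ZMod 2)) inferInstance inferInstance inferInstance
  refine hfin e (om_simple F₄ hF₄) (om_nc F₄ hF₄) ((XB k q1).subgroupOf (GG k)) ((XB k q2).subgroupOf (GG k))
    (hiso quad_q1) (hiso quad_q2) ?_ ?_ (hcent quad_q1) (hcent quad_q2) ?_ ?_ classes hclasses
  · rintro X ⟨f⟩
    have hX : X.map (GG k).subtype ≤ GG k := by
      rintro _ ⟨x, -, rfl⟩
      exact x.2
    obtain ⟨g, hg, h⟩ := exists_conj hk F₄ hF₄ hX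
      ⟨(Subgroup.equivMapOfInjective X (GG k).subtype (GG k).subtype_injective).symm.trans f⟩
    rcases h with h | h
    · exact Or.inl ⟨⟨g, hg⟩, (hconj X q1 ⟨g, hg⟩).2 h⟩
    · exact Or.inr ⟨⟨g, hg⟩, (hconj X q2 ⟨g, hg⟩).2 h⟩
  · intro g h
    have h1 := (hconj _ q2 g).1 h
    have h2 : ((XB k q1).subgroupOf (GG k)).map (GG k).subtype = XB k q1 := by
      rw [Subgroup.subgroupOf_map_subtype, inf_eq_left]
      exact XB_le q1
    rw [h2] at h1
    exact not_conj hk F₄ hF₄ g.2 h1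
  · rw [card_norm hk F₄ hF₄ quad_q1 combi3a, hcard (XB_le q1)]
  · rw [card_norm hk F₄ hF₄ quad_q2 combi3b, hcard (XB_le q2)]

theorem main (F₄ : Type u) [Field F₄] [Fintype F₄] (hF₄ : Fintype.card F₄ = 4)
    (classes : (Subgroup ↥(Cfsg.Lie.chevE8.group (ZMod 2)) → Prop) → ℕ → Prop)
    (hclasses : ∀ (P : Subgroup ↥(Cfsg.Lie.chevE8.group (ZMod 2)) → Prop) (k : ℕ), classes P k ↔
      ∃ f : Fin k → Subgroup ↥(Cfsg.Lie.chevE8.group (ZMod 2)), (∀ i, P (f i)) ∧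
        (∀ i j, (∃ g : ↥(Cfsg.Lie.chevE8.group (ZMod 2)), (f i).map (MulAut.conj g).toMonoidHom = f j) → i = j) ∧
        (∀ H, P H → ∃ (i : Fin k) (g : ↥(Cfsg.Lie.chevE8.group (ZMod 2))), H.map (MulAut.conj g).toMonoidHom = f i)) :
    classes (fun H => Nonempty (H ≃* Cfsg.Omega F₄ (Cfsg.quadFormPlus 4 F₄))) 2 ∧
    classes (fun H => Nonempty (Cfsg.generalizedFittingSubgroup H ≃* Cfsg.Omega F₄ (Cfsg.quadFormPlus 4 F₄)) ∧
      (Cfsg.generalizedFittingSubgroup H).index = 3) 1 ∧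
    classes (fun H => Nonempty (Cfsg.generalizedFittingSubgroup H ≃* Cfsg.Omega F₄ (Cfsg.quadFormPlus 4 F₄)) ∧
      (Cfsg.generalizedFittingSubgroup H).index = 4) 2 ∧
    classes (fun H => Nonempty (Cfsg.generalizedFittingSubgroup H ≃* Cfsg.Omega F₄ (Cfsg.quadFormPlus 4 F₄)) ∧
      (Cfsg.generalizedFittingSubgroup H).index = 12) 1 := by
  have hc : CharP (AlgebraicClosure (ZMod 2)) 2 :=
    charP_of_injective_algebraMap (algebraMap (ZMod 2) (AlgebraicClosure (ZMod 2))).injective 2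
  have hk : LocFin (AlgebraicClosure (ZMod 2)) := locFin_of_isAlgebraic 2 _
  exact main_aux (k := AlgebraicClosure (ZMod 2)) hk F₄ hF₄ classes hclasses

end Cfsg.Agent.H865.EE
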