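import Mathlib
import Cfsg.Prelude.Def_Classical

/-!
# Explicit elements of `Ω₈⁺(4)` (helper865, S3384)

`ω ∈ F`, `ω² = ω + 1`. Matrices with entries `0, 1, ω, ω + 1` (codes 0, 1, 2, 3) on the basis
`x_1, .., x_4 (inl), y_1, .., y_4 (inr)` of the form `∑ x_i y_i`.
-/

set_option autoImplicit false

namespace Cfsg.Agent.H865.EE.OD

/-- the element with a given code -/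
def val {F : Type*} [Field F] (ω : F) : ℕ → F
  | 0 => 0
  | 1 => 1
  | 2 => ω
  | _ => ω + 1

/-- the position of an index -/
def ix : Fin 4 ⊕ Fin 4 → ℕ
  | .inl i => i
  | .inr i => 4 + i

/-- the matrix with a given (row-major) list of 64 codes -/
def mat {F : Type*} [Field F] (ω : F) (c : List ℕ) : Matrix (Fin 4 ⊕ Fin 4) (Fin 4 ⊕ Fin 4) F :=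
  Matrix.of fun i j => val ω (c.getD (8 * ix i + ix j) 0)

/-- codes of the involutions `a_i` -/
def cA : Fin 4 → List ℕ := ![
  [1, 0, 0, 0, 0, 0, 0, 0, 1, 1, 0, 0, 0, 0, 0, 0, 0, 0, 1, 0, 0, 0, 0, 0, 0, 0, 0, 1, 0, 0, 0, 0, 0, 0, 0, 0, 1, 1, 0, 0, 0, 0, 0, 0, 0, 1, 0, 0, 0, 0, 0, 0, 0, 0, 1, 0, 0, 0, 0, 0, 0, 0, 0, 1],
  [1, 2, 3, 1, 0, 2, 3, 1, 3, 2, 3, 3, 2, 0, 1, 3, 1, 0, 2, 2, 3, 1, 0, 2, 2, 1, 3, 1, 1, 3, 2, 0, 0, 3, 1, 2, 1, 3, 1, 2, 3, 0, 2, 1, 2, 2, 0, 1, 1, 2, 0, 3, 3, 3, 2, 3, 2, 1, 3, 0, 1, 3, 2, 1],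
  [1, 0, 0, 0, 0, 0, 0, 0, 0, 1, 0, 0, 0, 0, 0, 0, 0, 0, 1, 0, 0, 0, 0, 0, 0, 0, 1, 1, 0, 0, 0, 0, 0, 0, 0, 0, 1, 0, 0, 0, 0, 0, 0, 0, 0, 1, 0, 0, 0, 0, 0, 0, 0, 0, 1, 1, 0, 0, 0, 0, 0, 0, 0, 1],
  [1, 0, 0, 0, 0, 0, 0, 0, 0, 1, 0, 0, 0, 0, 0, 0, 0, 0, 1, 0, 0, 0, 0, 0, 0, 0, 0, 1, 0, 0, 0, 0, 0, 0, 0, 0, 1, 0, 0, 0, 0, 0, 0, 0, 0, 1, 0, 0, 0, 0, 0, 1, 0, 0, 1, 0, 0, 0, 1, 0, 0, 0, 0, 1]]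

/-- codes of the elements `b_i` of order 3 -/
def cB : Fin 4 → List ℕ := ![
  [0, 2, 0, 0, 0, 0, 0, 0, 3, 1, 0, 0, 0, 0, 0, 0, 0, 0, 1, 0, 0, 0, 0, 0, 0, 0, 0, 1, 0, 0, 0, 0, 0, 0, 0, 0, 1, 3, 0, 0, 0, 0, 0, 0, 2, 0, 0, 0, 0, 0, 0, 0, 0, 0, 1, 0, 0, 0, 0, 0, 0, 0, 0, 1],
  [2, 3, 1, 1, 2, 0, 2, 1, 1, 3, 0, 1, 3, 3, 1, 1, 3, 2, 2, 0, 2, 1, 2, 0, 2, 3, 0, 2, 1, 1, 3, 3, 1, 1, 2, 2, 2, 0, 3, 2, 0, 3, 2, 3, 0, 2, 2, 3, 2, 2, 1, 1, 1, 0, 3, 1, 2, 3, 0, 3, 1, 1, 3, 2],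
  [1, 0, 0, 0, 0, 0, 0, 0, 0, 1, 0, 0, 0, 0, 0, 0, 0, 0, 0, 2, 0, 0, 0, 0, 0, 0, 3, 1, 0, 0, 0, 0, 0, 0, 0, 0, 1, 0, 0, 0, 0, 0, 0, 0, 0, 1, 0, 0, 0, 0, 0, 0, 0, 0, 1, 3, 0, 0, 0, 0, 0, 0, 2, 0],
  [1, 0, 0, 0, 0, 0, 0, 0, 0, 1, 0, 0, 0, 0, 0, 0, 0, 0, 0, 0, 0, 0, 0, 2, 0, 0, 0, 0, 0, 0, 2, 0, 0, 0, 0, 0, 1, 0, 0, 0, 0, 0, 0, 0, 0, 1, 0, 0, 0, 0, 0, 3, 0, 0, 1, 0, 0, 0, 3, 0, 0, 0, 0, 1]]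

/-- codes of the involutions `n_i`; `n_i = b a b a b b a b a` with `a = a_i`, `b = b_i` -/
def cN : Fin 4 → List ℕ := ![
  [1, 1, 0, 0, 0, 0, 0, 0, 0, 1, 0, 0, 0, 0, 0, 0, 0, 0, 1, 0, 0, 0, 0, 0, 0, 0, 0, 1, 0, 0, 0, 0, 0, 0, 0, 0, 1, 0, 0, 0, 0, 0, 0, 0, 1, 1, 0, 0, 0, 0, 0, 0, 0, 0, 1, 0, 0, 0, 0, 0, 0, 0, 0, 1],
  [1, 3, 0, 3, 0, 3, 3, 3, 1, 0, 1, 0, 3, 0, 3, 0, 1, 2, 0, 3, 3, 3, 0, 3, 1, 1, 1, 1, 3, 0, 3, 0, 0, 1, 0, 1, 1, 1, 1, 1, 1, 0, 1, 1, 3, 0, 2, 1, 0, 1, 0, 1, 0, 1, 0, 1, 1, 1, 1, 0, 3, 0, 3, 1],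
  [1, 0, 0, 0, 0, 0, 0, 0, 0, 1, 0, 0, 0, 0, 0, 0, 0, 0, 1, 1, 0, 0, 0, 0, 0, 0, 0, 1, 0, 0, 0, 0, 0, 0, 0, 0, 1, 0, 0, 0, 0, 0, 0, 0, 0, 1, 0, 0, 0, 0, 0, 0, 0, 0, 1, 0, 0, 0, 0, 0, 0, 0, 1, 1],
  [1, 0, 0, 0, 0, 0, 0, 0, 0, 1, 0, 0, 0, 0, 0, 0, 0, 0, 1, 0, 0, 0, 0, 1, 0, 0, 0, 1, 0, 0, 1, 0, 0, 0, 0, 0, 1, 0, 0, 0, 0, 0, 0, 0, 0, 1, 0, 0, 0, 0, 0, 0, 0, 0, 1, 0, 0, 0, 0, 0, 0, 0, 0, 1]]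

/-- codes of generators `e_j` of order 5 of `E`; `a_0 b_0 = e_0 e_1⁻¹`, `a_1 b_1 = e_1 e_2⁻¹`, `a_2 b_2 = e_2 e_3⁻¹`, `a_3 b_3 = e_2 e_3` -/
def cE : Fin 4 → List ℕ := ![
  [2, 3, 0, 0, 1, 3, 0, 0, 1, 3, 0, 0, 1, 2, 0, 0, 0, 0, 1, 0, 0, 0, 0, 0, 0, 0, 0, 1, 0, 0, 0, 0, 3, 2, 0, 0, 1, 2, 0, 0, 1, 2, 0, 0, 1, 3, 0, 0, 0, 0, 0, 0, 0, 0, 1, 0, 0, 0, 0, 0, 0, 0, 0, 1],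
  [3, 3, 0, 0, 1, 1, 0, 0, 1, 2, 0, 0, 3, 2, 0, 0, 0, 0, 1, 0, 0, 0, 0, 0, 0, 0, 0, 1, 0, 0, 0, 0, 3, 1, 0, 0, 3, 2, 0, 0, 2, 2, 0, 0, 1, 1, 0, 0, 0, 0, 0, 0, 0, 0, 1, 0, 0, 0, 0, 0, 0, 0, 0, 1],
  [1, 0, 0, 0, 0, 0, 0, 0, 0, 1, 0, 0, 0, 0, 0, 0, 0, 0, 2, 3, 0, 0, 1, 3, 0, 0, 1, 3, 0, 0, 1, 2, 0, 0, 0, 0, 1, 0, 0, 0, 0, 0, 0, 0, 0, 1, 0, 0, 0, 0, 3, 2, 0, 0, 1, 2, 0, 0, 1, 2, 0, 0, 1, 3],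
  [1, 0, 0, 0, 0, 0, 0, 0, 0, 1, 0, 0, 0, 0, 0, 0, 0, 0, 3, 3, 0, 0, 1, 1, 0, 0, 1, 2, 0, 0, 3, 2, 0, 0, 0, 0, 1, 0, 0, 0, 0, 0, 0, 0, 0, 1, 0, 0, 0, 0, 3, 1, 0, 0, 3, 2, 0, 0, 2, 2, 0, 0, 1, 1]]

end Cfsg.Agent.H865.EE.OD
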