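import Cfsg.Agent.H865.EE.Base

/-!
# The torus `E5 k` of order 625 and its characters (helper865, S3384)

* `PP : ℤ⁸ → F₅⁴`, `PP_w8 : PP (act w8 x) = 2 • PP x`, `PP_inj`, `PP_ne_zero` (on the roots), `PP_surj`, `exists_of_PP`;
* `mem_E5 : t ∈ E5 k ↔ t ∈ T ∧ ∀ x, cX t (w8 x) = cX t x ^ 2`, `E5_pow`, `cX_eq_of_PP`, `exists_E5`;
-/

set_option autoImplicit false
set_option linter.unusedSectionVars false

namespace Cfsg.Agent.H865.EE

open CoxeterSystem Subgroup Cfsg Cfsg.Lie Cfsg.Lie.ChevalleyDatum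
open Cfsg.Agent.ChevalleyStructure Cfsg.Agent.ChevalleyStructure.Elts Cfsg.Agent.ChevalleyStructure.CoxeterGeom
  Cfsg.Agent.ChevalleyStructure.CoxeterGeomTypes Cfsg.Agent.ChevalleyStructure.NPerm
open Cfsg.Agent.Tits.Roots Cfsg.Agent.Tits.Core Cfsg.Agent.Nodes Cfsg.Agent.Nodes.SubComb Cfsg.Agent.Nodes.Reps
  Cfsg.Agent.Nodes.BNOf Cfsg.Agent.Nodes.RGDChev Cfsg.Agent.Nodes.Bruhat Cfsg.Agent.Nodes.Coroot
open Cfsg.Agent.KFacts.RgdField Cfsg.Agent.KFacts.RgdChevCoord Cfsg.Agent.BpExc.TorCent Cfsg.Agent.BpExc.TorChev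
open Cfsg.Agent.GpExc.Field Cfsg.Agent.BpExc.Tow Cfsg.Agent.BpExc.TowChev Cfsg.Agent.BpExc.Fr
  Cfsg.Agent.BpExc.LangFr Cfsg.Agent.BpExc.FamField Cfsg.Agent.BpExc.FamInst Cfsg.Agent.H129.TorusChar
  Cfsg.Agent.H795.LangT Cfsg.Agent.BpExc.FamExt Cfsg.Agent.BpExc.FamUntw Cfsg.Agent.H378.TorDual Cfsg.Agent.H378.TorChar
  Cfsg.Agent.H378.TorFin Cfsg.Agent.H378.RankOne Cfsg.Agent.H378.RootTor

attribute [local irreducible] w8

/-! ### The reduction modulo 5 -/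

/-- integer matrix of `PP` -/
def PM : Fin 4 → Fin 8 → ℤ := ![![4, 4, 0, 1, 1, 0, 0, 0], ![1, 1, 2, 4, 0, 1, 0, 0], ![0, 1, 2, 4, 0, 0, 1, 0],
  ![1, 3, 2, 0, 0, 0, 0, 1]]

/-- the map `ℤ⁸ → F₅⁴` with `PP ∘ w8 = 2 PP` -/
def PP : (Fin 8 → ℤ) →+ (Fin 4 → ZMod 5) where
  toFun x := fun i => ((∑ j, PM i j * x j : ℤ) : ZMod 5)
  map_zero' := by funext i; simp
  map_add' x y := by
    funext i
    simp only [Pi.add_apply, mul_add, Finset.sum_add_distrib, Int.cast_add]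

theorem PP_apply (x : Fin 8 → ℤ) (i : Fin 4) : PP x i = ((∑ j, PM i j * x j : ℤ) : ZMod 5) := rfl

theorem PP_w8 (x : Fin 8 → ℤ) : PP (act w8 x) = 2 • PP x := by
  funext i
  rw [Pi.smul_apply, PP_apply, PP_apply, act_w8, nsmul_eq_mul, Nat.cast_ofNat]
  have key : ∀ (i : Fin 4) (j : Fin 8), (∑ k, PM i k * WM k j) % 5 = (2 * PM i j) % 5 := by decide +kernel
  have h1 : ∑ k, PM i k * ∑ j, WM k j * x j = ∑ j, (∑ k, PM i k * WM k j) * x j := by
    simp only [Finset.mul_sum, Finset.sum_mul]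
    rw [Finset.sum_comm]
    exact Finset.sum_congr rfl fun j _ => Finset.sum_congr rfl fun k _ => by ring
  rw [h1, show (2 : ZMod 5) = ((2 : ℤ) : ZMod 5) by norm_num, ← Int.cast_mul, Finset.mul_sum,
    ZMod.intCast_eq_intCast_iff]
  refine Int.ModEq.sum fun j _ => ?_
  rw [← mul_assoc]
  exact Int.ModEq.mul_right _ (key i j)

theorem PP_surj (c : Fin 4 → ZMod 5) : ∃ x, PP x = c := by
  refine ⟨fun j => if h : 4 ≤ (j : ℕ) then ((c ⟨j - 4, by omega⟩).val : ℤ) else 0, ?_⟩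
  funext i
  rw [PP_apply]
  have h5 : (∑ j, PM i j * (if h : 4 ≤ ((j : Fin 8) : ℕ) then ((c ⟨j - 4, by omega⟩).val : ℤ) else 0)) = ((c i).val : ℤ) := by
    fin_cases i <;> simp [Fin.sum_univ_eight, PM]
  rw [h5, Int.cast_natCast, ZMod.natCast_zmod_val]

theorem exists_of_PP {x : Fin 8 → ℤ} (h : PP x = 0) : ∃ y, x = act w8 y - 2 • y := by
  have h1 : ∀ i, (5 : ℤ) ∣ ∑ j, PM i j * x j := fun i => by
    have := congrFun h i
    rw [PP_apply, Pi.zero_apply, ZMod.intCast_zmod_eq_zero_iff_dvd] at this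
    exact_mod_cast this
  choose q hq using h1
  -- `w8 x + 2 x` is divisible by 5
  have key : ∀ i j : Fin 8, (5 : ℤ) ∣ (WM i j + if i = j then 2 else 0) -
      ∑ k : Fin 4, (WM i (Fin.natAdd 4 k) + if i = Fin.natAdd 4 k then 2 else 0) * PM k j := by decide +kernel
  have h2 : ∀ i, (5 : ℤ) ∣ (act w8 x + 2 • x) i := by
    intro i
    have e1 : (act w8 x + 2 • x) i = ∑ j, (WM i j + if i = j then 2 else 0) * x j := by
      rw [Pi.add_apply, act_w8, Pi.smul_apply]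
      simp only [add_mul, Finset.sum_add_distrib, ite_mul, zero_mul, Finset.sum_ite_eq, Finset.mem_univ, if_true,
        nsmul_eq_mul, Nat.cast_ofNat]
    have e2 : ∑ j, (WM i j + if i = j then 2 else 0) * x j =
        ∑ j, ((WM i j + if i = j then 2 else 0) -
          ∑ k : Fin 4, (WM i (Fin.natAdd 4 k) + if i = Fin.natAdd 4 k then 2 else 0) * PM k j) * x j +
        ∑ k : Fin 4, (WM i (Fin.natAdd 4 k) + if i = Fin.natAdd 4 k then 2 else 0) * ∑ j, PM k j * x j := by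
      simp only [sub_mul, Finset.sum_sub_distrib, Finset.sum_mul, Finset.mul_sum, ← mul_assoc]
      rw [Finset.sum_comm (s := (Finset.univ : Finset (Fin 8))) (t := (Finset.univ : Finset (Fin 4)))]
      ring
    rw [e1, e2]
    refine dvd_add (Finset.dvd_sum fun j _ => (key i j).mul_right _) (Finset.dvd_sum fun k _ => ?_)
    rw [hq]
    exact Dvd.dvd.mul_left ⟨_, rfl⟩ _
  choose y hy using h2
  refine ⟨-y, ?_⟩
  have h3 : act w8 x + 2 • x = (5 : ℤ) • y := by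
    funext i
    rw [hy, Pi.smul_apply, smul_eq_mul]
  -- apply `w8 - 2`
  have h4 : (5 : ℤ) • (act w8 (-y) - 2 • (-y)) = (5 : ℤ) • x := by
    have h5 := congrArg (fun z => act w8 z) h3
    simp only [map_add, map_smul, map_nsmul, w8_sq] at h5
    rw [map_neg, smul_sub, smul_neg, ← h5, smul_comm (5 : ℤ) (2 : ℕ), smul_neg (5 : ℤ) y, ← h3]
    module
  have h6 : ∀ i, (act w8 (-y) - 2 • (-y)) i = x i := fun i => by
    have := congrFun h4 i
    rw [Pi.smul_apply, Pi.smul_apply, smul_eq_mul, smul_eq_mul] at this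
    exact mul_left_cancel₀ (by norm_num) this
  exact (funext h6).symm

theorem PP_eq_iff {x y : Fin 8 → ℤ} : PP x = PP y ↔ ∃ z, x - y = act w8 z - 2 • z := by
  constructor
  · intro h
    exact exists_of_PP (by rw [map_sub, h, sub_self])
  · rintro ⟨z, hz⟩
    rw [← sub_eq_zero, ← map_sub, hz, map_sub, map_nsmul, PP_w8, sub_self]

/-! ### `PP` on the roots -/

/-- the code of `PP` on lists -/
def pcd (x : List ℤ) : List ℤ :=
  (List.finRange 4).map fun i => ((List.finRange 8).map fun j => PM i j * x.getD j 0).sum % 5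

theorem pcd_toL (x : Fin 8 → ℤ) (i : Fin 4) : (pcd (toL x)).getD i 0 = (∑ j, PM i j * x j) % 5 := by
  unfold pcd
  rw [List.getD_eq_getElem?_getD, List.getElem?_map, List.getElem?_eq_getElem (by simp)]
  simp only [getD_toL, List.getElem_finRange, Option.map_some, Option.getD_some]
  rw [← List.ofFn_eq_map, List.sum_ofFn]
  rfl

theorem tab_nodup : (RL.map pcd).Nodup := by decide +kernel

theorem tab_ne : ∀ x ∈ RL, pcd x ≠ [0, 0, 0, 0] := by decide +kernel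

theorem pcd_eq_iff {x y : Fin 8 → ℤ} : pcd (toL x) = pcd (toL y) ↔ PP x = PP y := by
  have h : ∀ i : Fin 4, PP x i = PP y i ↔ (∑ j, PM i j * x j) % 5 = (∑ j, PM i j * y j) % 5 := fun i => by
    rw [PP_apply, PP_apply, ZMod.intCast_eq_intCast_iff']
    rfl
  constructor
  · intro e
    funext i
    rw [h, ← pcd_toL, ← pcd_toL, e]
  · intro e
    have h2 : ∀ z : Fin 8 → ℤ, pcd (toL z) = (List.finRange 4).map fun i => (∑ j, PM i j * z j) % 5 := fun z => by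
      unfold pcd
      refine List.map_congr_left fun i _ => ?_
      simp only [getD_toL]
      rw [← List.ofFn_eq_map, List.sum_ofFn]
    rw [h2, h2]
    exact List.map_congr_left fun i _ => (h i).1 (congrFun e i)

theorem rt_act {a : Fin 8 → ℤ} (ha : Rt a) (v : W8) : Rt (act v a) := IsRoot.act ha v

theorem rt_neg {a : Fin 8 → ℤ} (ha : Rt a) : Rt (-a) := IsRoot.neg ha

theorem PP_inj {a b : Fin 8 → ℤ} (ha : Rt a) (hb : Rt b) (h : PP a = PP b) : a = b :=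
  toL_inj ((List.inj_on_of_nodup_map tab_nodup) ((rt_iff a).1 ha) ((rt_iff b).1 hb) (pcd_eq_iff.2 h))

theorem PP_ne_zero {a : Fin 8 → ℤ} (ha : Rt a) : PP a ≠ 0 := by
  intro h
  have h1 : pcd (toL a) = pcd (toL 0) := pcd_eq_iff.2 (by rw [h, map_zero])
  exact tab_ne _ ((rt_iff a).1 ha) (h1.trans (by decide +kernel))

/-- the four roots on a line -/
theorem PP_line {a b : Fin 8 → ℤ} (ha : Rt a) (hb : Rt b) {c : ZMod 5} (h : PP b = c • PP a) :
    b = a ∨ b = -a ∨ b = act w8 a ∨ b = -act w8 a := by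
  have hc5 : ∀ c : ZMod 5, c = 0 ∨ c = 1 ∨ c = 2 ∨ c = 3 ∨ c = 4 := by decide
  have hc := hc5 c
  have hwa : Rt (act w8 a) := rt_act ha w8
  have h2 : (2 : ZMod 5) • PP a = PP (act w8 a) := by
    rw [PP_w8, ← Nat.cast_smul_eq_nsmul (ZMod 5)]; rfl
  have h4 : (4 : ZMod 5) • PP a = PP (-a) := by
    rw [map_neg, show (4 : ZMod 5) = -1 by decide, neg_one_smul]
  have h3 : (3 : ZMod 5) • PP a = PP (-act w8 a) := by
    rw [map_neg, ← h2, show (3 : ZMod 5) = -2 by decide, neg_smul]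
  rcases hc with rfl | rfl | rfl | rfl | rfl
  · rw [zero_smul] at h
    exact absurd h (PP_ne_zero hb)
  · rw [one_smul] at h
    exact Or.inl (PP_inj hb ha h)
  · rw [h2] at h
    exact Or.inr (Or.inr (Or.inl (PP_inj hb hwa h)))
  · rw [h3] at h
    exact Or.inr (Or.inr (Or.inr (PP_inj hb (rt_neg hwa) h)))
  · rw [h4] at h
    exact Or.inr (Or.inl (PP_inj hb ha.neg h))

/-! ### The torus -/

section Tor

variable {k : Type} [Field k] [CharP k 2] [PerfectRing k 2]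

theorem phi_TT {t : ↥(chevE8.group k)} (ht : t ∈ TT chevE8 k) (m : ℕ) : phi chevE8 k 2 m t = t ^ 2 ^ m := by
  rw [Subgroup.mem_subgroupOf] at ht
  obtain ⟨χ, hχ⟩ := HMatDiagAll.mem_torus.1 (HMatDiagAll.diagonalSubgroup_le_torus tp8.inList ht)
  apply Subtype.ext
  apply Units.ext
  rw [phi_coe, Subgroup.coe_pow, Units.val_pow_eq_pow_val, hχ, Matrix.diagonal_pow]
  ext i j
  rw [Matrix.map_apply]
  by_cases hij : i = j
  · subst hij
    rw [Matrix.diagonal_apply_eq, Matrix.diagonal_apply_eq]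
    rfl
  · rw [Matrix.diagonal_apply_ne _ hij, Matrix.diagonal_apply_ne _ hij, zero_pow (pow_ne_zero _ two_ne_zero)]

variable [IsAlgClosed k] (hk : LocFin k)

theorem ta_apply (y : ↥(chevE8.group k)) : ta k y = nu tp8 k w8 * phi chevE8 k 2 1 y * (nu tp8 k w8)⁻¹ := rfl

theorem mem_GG {y : ↥(chevE8.group k)} : y ∈ GG k ↔ ta k y = y := Iff.rfl

include hk in
theorem nu_conj_TT (v : W8) {t : ↥(chevE8.group k)} (ht : t ∈ TT chevE8 k) :
    nu tp8 k v * t * (nu tp8 k v)⁻¹ ∈ TT chevE8 k :=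
  (Subgroup.mem_normalizer_iff.1 (nu_rp tp8 hk v).mem_normalizer t).1 ht

include hk in
theorem cX_nu (v : W8) {t : ↥(chevE8.group k)} (ht : t ∈ TT chevE8 k) (x : Fin 8 → ℤ) :
    cX tp8 (nu tp8 k v * t * (nu tp8 k v)⁻¹) (act v x) = cX tp8 t x :=
  cX_rp tp8 cs8 hk 2 (nu_rp tp8 hk v) ht x

include hk in
theorem ta_TT {t : ↥(chevE8.group k)} (ht : t ∈ TT chevE8 k) : ta k t ∈ TT chevE8 k := by
  rw [ta_apply, phi_TT ht]
  exact nu_conj_TT hk w8 (pow_mem ht _)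

include hk in
theorem cX_ta {t : ↥(chevE8.group k)} (ht : t ∈ TT chevE8 k) (x : Fin 8 → ℤ) :
    cX tp8 (ta k t) (act w8 x) = cX tp8 t x ^ 2 := by
  rw [ta_apply, phi_TT ht, pow_one, cX_nu hk w8 (pow_mem ht _), cX_pow tp8 ht]

include hk in
/-- **Membership in the torus of order 625** -/
theorem mem_E5 {t : ↥(chevE8.group k)} :
    t ∈ E5 k ↔ t ∈ TT chevE8 k ∧ ∀ x, cX tp8 t (act w8 x) = cX tp8 t x ^ 2 := by
  constructor
  · rintro ⟨ht, h⟩
    refine ⟨ht, fun x => ?_⟩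
    have h1 := cX_ta hk ht x
    rwa [mem_GG.1 h] at h1
  · rintro ⟨ht, h⟩
    refine ⟨ht, mem_GG.2 (cX_inj tp8 (ta_TT hk ht) ht fun i => ?_)⟩
    have e : ∀ x, act w8 (-act w8 x) = x := fun x => by rw [map_neg, w8_sq, neg_neg]
    have h1 := cX_ta hk ht (-act w8 (sr i))
    have h2 := h (-act w8 (sr i))
    rw [e] at h1 h2
    rw [h1, h2]

include hk in
theorem cX_E5_pow {t : ↥(chevE8.group k)} (ht : t ∈ E5 k) (x : Fin 8 → ℤ) : cX tp8 t x ^ 5 = 1 := by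
  obtain ⟨hT, h⟩ := (mem_E5 hk).1 ht
  have h1 := h (act w8 x)
  rw [w8_sq, h, (isMC_cX tp8 hT).neg, ← pow_mul] at h1
  have h0 := (isMC_cX tp8 hT).ne_zero x
  calc cX tp8 t x ^ 5 = cX tp8 t x ^ (2 * 2) * cX tp8 t x := by ring
    _ = 1 := by rw [← h1, inv_mul_cancel₀ h0]

include hk in
theorem E5_pow {t : ↥(chevE8.group k)} (ht : t ∈ E5 k) : t ^ 5 = 1 := by
  refine cX_inj tp8 (pow_mem ht.1 5) (one_mem _) fun i => ?_
  rw [cX_pow tp8 ht.1, cX_E5_pow hk ht, cX_one]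

include hk in
/-- the characters of `E5 k` factor through `PP`. -/
theorem cX_eq_of_PP {t : ↥(chevE8.group k)} (ht : t ∈ E5 k) {x y : Fin 8 → ℤ} (h : PP x = PP y) :
    cX tp8 t x = cX tp8 t y := by
  obtain ⟨z, hz⟩ := PP_eq_iff.1 h
  obtain ⟨hT, h1⟩ := (mem_E5 hk).1 ht
  have hm := isMC_cX tp8 hT
  have h2 : x = y + (act w8 z - 2 • z) := by rw [← hz]; abel
  rw [h2, hm.add, sub_eq_add_neg, hm.add, hm.neg, hm.nsmul, h1, mul_inv_cancel₀ (pow_ne_zero _ (hm.ne_zero z)), mul_one]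

theorem exists_zeta (k : Type) [Field k] [CharP k 2] [IsAlgClosed k] : ∃ ζ : k, IsPrimitiveRoot ζ 5 := by
  have : NeZero ((5 : ℕ) : k) := ⟨by
    intro h
    rw [CharP.cast_eq_zero_iff k 2] at h
    omega⟩
  obtain ⟨ζ, hζ⟩ := IsAlgClosed.exists_root (Polynomial.cyclotomic 5 k) (by
    rw [Polynomial.degree_cyclotomic]
    exact_mod_cast (Nat.totient_pos.2 (by norm_num)).ne')
  exact ⟨ζ, (Polynomial.isRoot_cyclotomic_iff).1 hζ⟩

include hk in
/-- **Existence of elements of `E5 k`.** -/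
theorem exists_E5 {ζ : k} (hζ : IsPrimitiveRoot ζ 5) (φ : (Fin 4 → ZMod 5) →+ ZMod 5) :
    ∃ t ∈ E5 k, ∀ x, cX tp8 t x = ζ ^ (φ (PP x)).val := by
  have hval : ∀ a b : ZMod 5, ζ ^ (a + b).val = ζ ^ a.val * ζ ^ b.val := fun a b => by
    rw [← pow_add]
    exact pow_eq_pow_of_modEq (by rw [ZMod.val_add]; exact Nat.mod_modEq _ _) hζ.pow_eq_one
  have hmc : IsMC (fun x : Fin 8 → ℤ => ζ ^ (φ (PP x)).val) :=
    { zero := by
        show ζ ^ (φ (PP 0)).val = 1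
        rw [map_zero, map_zero, ZMod.val_zero, pow_zero]
      add := fun x y => by
        show ζ ^ (φ (PP (x + y))).val = _
        rw [map_add, map_add, hval] }
  obtain ⟨t, ht, h⟩ := exists_cX tp8 invC_E8 one_ne_zero hmc fun i => ⟨_, pow_one _⟩
  refine ⟨t, (mem_E5 hk).2 ⟨ht, fun x => ?_⟩, h⟩
  rw [h, h, PP_w8, map_nsmul, two_nsmul, hval, sq]

end Tor

end Cfsg.Agent.H865.EE
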